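import Mathlib.FieldTheory.Finite.Extension
import Mathlib.GroupTheory.Sylow
import Mathlib.LinearAlgebra.Matrix.GeneralLinearGroup.Card
import Mathlib.LinearAlgebra.SymplecticGroup
import Mathlib.LinearAlgebra.FiniteDimensional.Lemmas
import Mathlib.RingTheory.Polynomial.Cyclotomic.Eval
import Mathlib.GroupTheory.SpecificGroups.Cyclic
import Mathlib.Algebra.Group.Pi.Units

/-!
# Sylow subgroups of linear groups at primes exceeding the rank

The valuations of the group orders, the torus inside `GL n`, and the comparison of Sylow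
subgroups along injective homomorphisms with equal valuations.
-/

set_option autoImplicit false

namespace CfsgLib.Classical.SylowLargeR

open Polynomial Matrix
open scoped Finset

variable {r : ℕ} [hr : Fact r.Prime] {q : ℕ}

/-- An injective image of a group of the Sylow order is a Sylow subgroup. -/
theorem sylow_iso_of_inj {A H : Type*} [Group A] [Group H] [Finite H] (f : A →* H)
    (hf : Function.Injective f) (hcard : Nat.card A = r ^ (Nat.card H).factorization r)
    (Q : Sylow r H) : Nonempty (↥(Q : Subgroup H) ≃* A) := by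
  have hc : Nat.card f.range = r ^ (Nat.card H).factorization r := by
    rw [← hcard]; exact Nat.card_congr (MonoidHom.ofInjective hf).symm.toEquiv
  exact ⟨(Q.equiv (Sylow.ofCard f.range hc)).trans (MonoidHom.ofInjective hf).symm⟩

/-- Sylow subgroups along an injective homomorphism with equal valuations. -/
theorem sylow_iso_along {G H : Type*} [Group G] [Finite G] [Group H] [Finite H] (f : G →* H)
    (hf : Function.Injective f)
    (hcard : (Nat.card G).factorization r = (Nat.card H).factorization r) (P : Sylow r G)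
    (Q : Sylow r H) : Nonempty (↥(Q : Subgroup H) ≃* ↥(P : Subgroup G)) :=
  sylow_iso_of_inj (f.comp (P : Subgroup G).subtype) (hf.comp Subtype.val_injective)
    (by rw [P.card_eq_multiplicity, hcard]) Q

section Arith

variable (hq : 2 ≤ q) (hrq : ¬ r ∣ q)
include hq hrq

theorem q_ne : (q : ZMod r) ≠ 0 := by rwa [Ne, ZMod.natCast_eq_zero_iff]

theorem d_pos : 0 < orderOf (q : ZMod r) := by
  rw [orderOf_pos_iff]
  exact isOfFinOrder_iff_pow_eq_one.2 ⟨r - 1, Nat.sub_pos_of_lt hr.out.one_lt,
    ZMod.pow_card_sub_one_eq_one (q_ne hq hrq)⟩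

theorem dvd_pow_pred_iff (i : ℕ) : r ∣ q ^ i - 1 ↔ orderOf (q : ZMod r) ∣ i := by
  rw [orderOf_dvd_iff_pow_eq_one, ← ZMod.natCast_eq_zero_iff,
    Nat.cast_sub (Nat.one_le_pow i q (by omega))]
  push_cast
  exact sub_eq_zero

theorem val_pow_pred_mul {j : ℕ} (hj : ¬ r ∣ j) :
    (q ^ (orderOf (q : ZMod r) * j) - 1).factorization r =
      (q ^ orderOf (q : ZMod r) - 1).factorization r := by
  set d := orderOf (q : ZMod r) with hd
  have hpos : 1 < q ^ d := Nat.one_lt_pow (d_pos hq hrq).ne' (by omega)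
  have hsum : (∑ x ∈ Finset.range j, (q ^ d) ^ x) * (q ^ d - 1) = q ^ (d * j) - 1 := by
    rw [pow_mul]; exact geom_sum_mul_of_one_le hpos.le j
  have hnd : ¬ r ∣ ∑ x ∈ Finset.range j, (q ^ d) ^ x := by
    rw [← ZMod.natCast_eq_zero_iff]
    push_cast
    have : (q : ZMod r) ^ d = 1 := pow_orderOf_eq_one _
    simp only [this, one_pow, Finset.sum_const, Finset.card_range, nsmul_one]
    rwa [ZMod.natCast_eq_zero_iff]
  have hne : (∑ x ∈ Finset.range j, (q ^ d) ^ x) ≠ 0 := fun h => hnd (h ▸ dvd_zero r)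
  rw [← hsum, Nat.factorization_mul hne (by omega), Finsupp.add_apply,
    Nat.factorization_eq_zero_of_not_dvd hnd, zero_add]

theorem val_pow_pred {N : ℕ} (h : orderOf (q : ZMod r) ∣ N → ¬ r ∣ N / orderOf (q : ZMod r)) :
    (q ^ N - 1).factorization r =
      if orderOf (q : ZMod r) ∣ N then (q ^ orderOf (q : ZMod r) - 1).factorization r else 0 := by
  split_ifs with hd
  · obtain ⟨j, rfl⟩ := hd
    have := h (dvd_mul_right _ _)
    rw [Nat.mul_div_cancel_left _ (d_pos hq hrq)] at this
    exact val_pow_pred_mul hq hrq this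
  · exact Nat.factorization_eq_zero_of_not_dvd (mt (dvd_pow_pred_iff hq hrq N).1 hd)

theorem sum_val_pow_pred {n : ℕ} (hn : n / orderOf (q : ZMod r) < r) :
    ∑ i ∈ Finset.range n, (q ^ (i + 1) - 1).factorization r =
      n / orderOf (q : ZMod r) * (q ^ orderOf (q : ZMod r) - 1).factorization r := by
  induction n with
  | zero => simp
  | succ n ih =>
    have hle := Nat.div_le_div_right (c := orderOf (q : ZMod r)) (Nat.le_succ n)
    rw [Finset.sum_range_succ, ih (lt_of_le_of_lt hle hn), Nat.succ_div,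
      val_pow_pred hq hrq (N := n + 1) ?_, add_mul, ite_mul, one_mul, zero_mul]
    intro hd hdvd
    exact absurd (Nat.le_of_dvd (Nat.div_pos (Nat.le_of_dvd n.succ_pos hd) (d_pos hq hrq)) hdvd)
      (not_le.2 hn)

theorem val_q_zero : q.factorization r = 0 := Nat.factorization_eq_zero_of_not_dvd hrq

theorem cyclotomic_eval_val :
    padicValNat r ((cyclotomic (orderOf (q : ZMod r)) ℤ).eval (q : ℤ)).natAbs =
      (q ^ orderOf (q : ZMod r) - 1).factorization r := by
  set d := orderOf (q : ZMod r) with hd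
  have hd0 := d_pos hq hrq
  have hprod : (∏ i ∈ d.divisors, (cyclotomic i ℤ).eval (q : ℤ)) = (q : ℤ) ^ d - 1 := by
    rw [← eval_prod, prod_cyclotomic_eq_X_pow_sub_one hd0]; simp [hd]
  rw [← Nat.insert_self_properDivisors hd0.ne'] at hprod
  rw [Finset.prod_insert Nat.self_notMem_properDivisors] at hprod
  set R := ∏ i ∈ d.properDivisors, (cyclotomic i ℤ).eval (q : ℤ) with hR
  have hRd : ¬ r ∣ R.natAbs := by
    rw [← Int.natCast_dvd, ← ZMod.intCast_zmod_eq_zero_iff_dvd, hR, Int.cast_prod,
      Finset.prod_eq_zero_iff]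
    rintro ⟨i, hi, h0⟩
    rw [Nat.mem_properDivisors] at hi
    have hi0 : 0 < i := Nat.pos_of_dvd_of_pos hi.1 hd0
    have hdvd : (cyclotomic i ℤ).eval (q : ℤ) ∣ (q : ℤ) ^ i - 1 := by
      have := Polynomial.eval_dvd (x := (q : ℤ)) (cyclotomic.dvd_X_pow_sub_one i ℤ)
      simpa using this
    have h1 : (((q : ℤ) ^ i - 1 : ℤ) : ZMod r) = 0 := by
      obtain ⟨c, hc⟩ := hdvd
      rw [hc, Int.cast_mul, h0, zero_mul]
    have h2 : (q : ZMod r) ^ i = 1 := by
      push_cast at h1
      exact sub_eq_zero.1 h1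
    exact absurd (Nat.le_of_dvd hi0 (orderOf_dvd_of_pow_eq_one h2)) (not_le.2 hi.2)
  have habs : ((cyclotomic d ℤ).eval (q : ℤ)).natAbs * R.natAbs = q ^ d - 1 := by
    rw [← Int.natAbs_mul, hprod]
    have h1 : 1 ≤ q ^ d := Nat.one_le_pow _ _ (by omega)
    rw [show (q : ℤ) ^ d - 1 = ((q ^ d - 1 : ℕ) : ℤ) by rw [Nat.cast_sub h1]; simp,
      Int.natAbs_natCast]
  have hne : q ^ d - 1 ≠ 0 := by rw [← hd] at hd0; have := Nat.one_lt_pow hd0.ne' (show 1 < q by omega); omega
  rw [← Nat.factorization_def _ hr.out, ← habs,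
    Nat.factorization_mul (left_ne_zero_of_mul (habs ▸ hne)) (right_ne_zero_of_mul (habs ▸ hne)),
    Finsupp.add_apply, Nat.factorization_eq_zero_of_not_dvd hRd, add_zero]

theorem val_card_GL_formula {n : ℕ} (hn : n / orderOf (q : ZMod r) < r) :
    (∏ i : Fin n, (q ^ n - q ^ (i : ℕ))).factorization r =
      n / orderOf (q : ZMod r) * (q ^ orderOf (q : ZMod r) - 1).factorization r := by
  rw [Fin.prod_univ_eq_prod_range (fun i => q ^ n - q ^ i) n, Nat.factorization_prod_apply,
    ← sum_val_pow_pred hq hrq hn,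
    ← Finset.sum_range_reflect (fun i => (q ^ (i + 1) - 1).factorization r) n]
  · refine Finset.sum_congr rfl fun i hi => ?_
    rw [Finset.mem_range] at hi
    have h1 : q ^ n - q ^ i = q ^ i * (q ^ (n - 1 - i + 1) - 1) := by
      rw [Nat.mul_sub, mul_one, ← pow_add]; congr 2; omega
    have h2 : q ^ (n - 1 - i + 1) - 1 ≠ 0 := by
      have := Nat.one_lt_pow (n := n - 1 - i + 1) (by omega) (show 1 < q by omega); omega
    rw [h1, Nat.factorization_mul (pow_ne_zero _ (by omega)) h2, Finsupp.add_apply,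
      Nat.factorization_pow, Finsupp.smul_apply, val_q_zero hq hrq, smul_zero, zero_add]
  · intro i hi
    have := Nat.pow_lt_pow_right (show 1 < q by omega) (Finset.mem_range.1 hi)
    omega

end Arith

section Torus

variable {F : Type*} [Field F] [Fintype F]

theorem two_le_q (hq : Fintype.card F = q) : 2 ≤ q := hq ▸ Fintype.one_lt_card

/-- Powers of the unit group of an extension field embedded in `GL n`. -/
theorem exists_torus (d k n : ℕ) [NeZero d] (hkn : k * d ≤ n) (K : Type*) [Field K] [Algebra F K]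
    [Module.Finite F K] (hK : Module.finrank F K = d) :
    ∃ f : (Fin k → Kˣ) →* GL (Fin n) F, Function.Injective f := by
  let V := (Fin k → K) × (Fin (n - k * d) → F)
  have hfin : Module.finrank F V = n := by
    simp [V, Module.finrank_prod, Module.finrank_pi_fintype, hK]; omega
  let b : Module.Basis (Fin n) F V := Module.finBasisOfFinrankEq F V hfin
  let ψ : (Fin k → K) →* Module.End F V :=
    { toFun := fun c => (LinearMap.mulLeft F c).prodMap LinearMap.id
      map_one' := by ext v <;> simp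
      map_mul' := fun a c => LinearMap.ext fun v => by
        refine Prod.ext ?_ ?_ <;> simp [mul_assoc] }
  have hψ : Function.Injective ψ := fun a c h => by
    have := congrArg (fun (e : Module.End F V) => (e (1, 0)).1) h
    funext i
    have h1 := congrFun this i
    change a i * 1 = c i * 1 at h1
    simpa using h1
  let φ : (Fin k → K) →* Matrix (Fin n) (Fin n) F :=
    (algEquivMatrix b).toAlgHom.toRingHom.toMonoidHom.comp ψ
  have hφ : Function.Injective φ := (algEquivMatrix b).injective.comp hψ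
  let π : (Fin k → Kˣ) ≃* (Fin k → K)ˣ := (MulEquiv.piUnits (M := fun _ : Fin k => K)).symm
  exact ⟨(Units.map φ).comp π.toMonoidHom, (Units.map_injective hφ).comp π.injective⟩

variable (hq : Fintype.card F = q) (hrq : ¬ r ∣ q)
include hq hrq

/-- The Sylow `r`-subgroup of `GL n`. -/
theorem sylow_GL {n : ℕ} (hn : n / orderOf (q : ZMod r) < r) (P : Sylow r (GL (Fin n) F)) :
    Nonempty (↥(P : Subgroup (GL (Fin n) F)) ≃* (Fin (n / orderOf (q : ZMod r)) →
      Multiplicative (ZMod (r ^ padicValNat r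
        ((cyclotomic (orderOf (q : ZMod r)) ℤ).eval (q : ℤ)).natAbs)))) := by
  classical
  have h2 := two_le_q hq
  rw [cyclotomic_eval_val h2 hrq]
  set d := orderOf (q : ZMod r) with hd
  set m := r ^ (q ^ d - 1).factorization r with hm
  haveI : NeZero d := ⟨(d_pos h2 hrq).ne'⟩
  obtain ⟨p, hp⟩ := CharP.exists F
  haveI : Fact p.Prime := ⟨CharP.char_is_prime F p⟩
  let K := FiniteField.Extension F p d
  letI : Algebra (ZMod p) F := ZMod.algebra F p
  have hK : Module.finrank F K = d := FiniteField.finrank_extension F p d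
  haveI : Finite K := Module.finite_of_finite F
  have hcardK : Nat.card Kˣ = q ^ d - 1 := by
    rw [Nat.card_units, Module.natCard_eq_pow_finrank (K := F), hK, Nat.card_eq_fintype_card, hq]
  obtain ⟨g, hg⟩ := IsCyclic.exists_generator (α := Kˣ)
  have hog : orderOf g = q ^ d - 1 := by rw [orderOf_eq_card_of_forall_mem_zpowers hg, hcardK]
  have hne : q ^ d - 1 ≠ 0 := hcardK ▸ Nat.card_pos.ne'
  obtain ⟨z, hz⟩ : ∃ z : Kˣ, orderOf z = m := by
    obtain ⟨c, hc⟩ := Nat.ordProj_dvd (q ^ d - 1) r
    have hc0 : c ≠ 0 := fun h => hne (by rw [hc, h, mul_zero])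
    refine ⟨g ^ c, ?_⟩
    rw [orderOf_pow' g hc0, hog, hc, Nat.gcd_mul_left_left, Nat.mul_div_cancel _ (by omega)]
  haveI : NeZero m := ⟨pow_ne_zero _ hr.out.ne_zero⟩
  let e : Multiplicative (ZMod m) ≃* Subgroup.zpowers z := mulEquivOfCyclicCardEq (by
    rw [Nat.card_zpowers, hz, Nat.card_congr Multiplicative.toAdd, Nat.card_zmod])
  obtain ⟨f, hf⟩ := exists_torus (F := F) d (n / d) n (Nat.div_mul_le_self n d) K hK
  let ι : (Fin (n / d) → Multiplicative (ZMod m)) →* GL (Fin n) F :=
    f.comp (((Subgroup.zpowers z).subtype.comp e.toMonoidHom).compLeft (Fin (n / d)))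
  refine sylow_iso_of_inj ι (hf.comp fun a c h => funext fun i =>
    e.injective (Subtype.ext (congrFun h i))) ?_ P
  rw [Nat.card_fun, Nat.card_congr Multiplicative.toAdd, Nat.card_zmod, Nat.card_fin,
    Matrix.card_GL_field, hq, val_card_GL_formula h2 hrq hn, hm, ← pow_mul, mul_comm]

end Torus

end CfsgLib.Classical.SylowLargeR
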