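import Cfsg.Agent.Lib.Recog.LargePrimitivePrime
import Mathlib.NumberTheory.SumTwoSquares
import Mathlib.LinearAlgebra.Matrix.GeneralLinearGroup.Card
import Mathlib.GroupTheory.Sylow
import Mathlib.RingTheory.IntegralDomain
import Mathlib.LinearAlgebra.Charpoly.Basic
import Mathlib.FieldTheory.Minpoly.Field
import Mathlib.GroupTheory.NoncommCoprod

/-!
Coprime linear groups transitive on nonzero vectors in which the elements with cyclic centralizer,
other than the identity, form one class, and whose order is a sum of two squares: the module has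
three elements.
-/

set_option autoImplicit false
set_option linter.unusedSectionVars false
set_option maxHeartbeats 1000000

namespace CfsgLib.Linear.RegularTwoClass

open Module

variable {p : ℕ} [Fact p.Prime] {V : Type*} [AddCommGroup V] [Module (ZMod p) V] [Finite V]
variable {E : Type*} [Group E] [Finite E]
variable (ρ : E →* (V ≃ₗ[ZMod p] V))

/-- No proper nonzero invariant submodule. -/
def Irr (f : E) : Prop :=
  ∀ W : Submodule (ZMod p) V, (∀ w ∈ W, ρ f w ∈ W) → W = ⊥ ∨ W = ⊤

/-- The endomorphism attached to an element. -/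
noncomputable def toEnd : E →* Module.End (ZMod p) V where
  toFun g := (ρ g).toLinearMap
  map_one' := by rw [map_one]; rfl
  map_mul' g h := by rw [map_mul]; rfl

theorem toEnd_apply (g : E) (v : V) : toEnd ρ g v = ρ g v := rfl

theorem apply_mul (g h : E) (v : V) : ρ (g * h) v = ρ g (ρ h v) := by rw [map_mul]; rfl

theorem apply_one (v : V) : ρ 1 v = v := by rw [map_one]; rfl

theorem toEnd_injective (hρ : Function.Injective ρ) : Function.Injective (toEnd ρ) :=
  fun _ _ h => hρ (LinearEquiv.toLinearMap_injective h)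

section Commutant

variable {ρ} {f : E} (hf : Irr ρ f) [Nontrivial V]
include hf

theorem ker_of_comm {k : Module.End (ZMod p) V} (hk : Commute k (toEnd ρ f)) (hk0 : k ≠ 0) :
    LinearMap.ker k = ⊥ := by
  refine (hf (LinearMap.ker k) fun w hw => ?_).resolve_right fun h => hk0 (LinearMap.ker_eq_top.1 h)
  rw [LinearMap.mem_ker] at hw ⊢
  have := LinearMap.congr_fun hk.eq w
  simp only [Module.End.mul_apply, toEnd_apply] at this
  rw [this, hw, map_zero]

theorem mem_adjoin {k : Module.End (ZMod p) V} (hk : Commute k (toEnd ρ f)) :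
    k ∈ Algebra.adjoin (ZMod p) {toEnd ρ f} := by
  obtain ⟨v₀, hv₀⟩ := exists_ne (0 : V)
  set W : Submodule (ZMod p) V :=
    Submodule.map (LinearMap.applyₗ v₀)
      (Subalgebra.toSubmodule (Algebra.adjoin (ZMod p) {toEnd ρ f})) with hW
  have hWt : W = ⊤ := by
    refine (hf W fun w hw => ?_).resolve_left fun h => hv₀ ?_
    · obtain ⟨a, ha, rfl⟩ := hw
      exact ⟨toEnd ρ f * a, Subalgebra.mul_mem _ (Algebra.self_mem_adjoin_singleton _ _) ha, rfl⟩
    · have : v₀ ∈ W := ⟨1, Subalgebra.one_mem _, rfl⟩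
      rwa [h, Submodule.mem_bot] at this
  obtain ⟨a, ha, hav⟩ := (hWt ▸ Submodule.mem_top : k v₀ ∈ W)
  have hc : Commute (k - a) (toEnd ρ f) :=
    hk.sub_left (Algebra.commute_of_mem_adjoin_self ha).symm
  by_contra hne
  have hne' : k - a ≠ 0 := fun h => hne (by rw [sub_eq_zero] at h; exact h ▸ ha)
  have hker := ker_of_comm hf hc hne'
  refine hv₀ ?_
  rw [← Submodule.mem_bot (R := ZMod p), ← hker, LinearMap.mem_ker, LinearMap.sub_apply]
  exact sub_eq_zero.2 hav.symm

theorem isDomain_adjoin : IsDomain (Algebra.adjoin (ZMod p) {toEnd ρ f}) := by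
  have : NoZeroDivisors (Algebra.adjoin (ZMod p) {toEnd ρ f}) := ⟨fun {a b} hab => by
    by_contra h
    push Not at h
    have hker := ker_of_comm hf (Algebra.commute_of_mem_adjoin_self a.2).symm
      (fun e => h.1 (Subtype.ext e))
    refine h.2 (Subtype.ext (LinearMap.ext fun v => ?_))
    have hv : (a : Module.End (ZMod p) V) ((b : Module.End (ZMod p) V) v) = 0 :=
      LinearMap.congr_fun (congrArg Subtype.val hab) v
    rw [← LinearMap.mem_ker, hker, Submodule.mem_bot] at hv
    simpa using hv⟩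
  exact NoZeroDivisors.to_isDomain _

theorem isCyclic_centralizer (hρ : Function.Injective ρ) :
    IsCyclic (Subgroup.centralizer ({f} : Set E)) := by
  have := isDomain_adjoin hf
  let g : Subgroup.centralizer ({f} : Set E) →* Algebra.adjoin (ZMod p) {toEnd ρ f} :=
    { toFun := fun x => ⟨toEnd ρ x, mem_adjoin hf (by
        rw [Commute, SemiconjBy, ← map_mul, ← map_mul,
          Subgroup.mem_centralizer_singleton_iff.1 x.2])⟩
      map_one' := Subtype.ext (map_one _)
      map_mul' := fun x y => Subtype.ext (map_mul _ _ _) }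
  exact isCyclic_of_injective_ringHom g fun x y h =>
    Subtype.ext (toEnd_injective ρ hρ (congrArg Subtype.val h :))

/-- At most dimension many conjugate powers. -/
theorem card_conj_pow_le (hρ : Function.Injective ρ) (J : Finset ℕ)
    (hJ : ∀ j ∈ J, IsConj f (f ^ j)) (hinj : Set.InjOn (fun j => f ^ j) J) :
    J.card ≤ finrank (ZMod p) V := by
  classical
  have hdom := isDomain_adjoin hf
  set A := Algebra.adjoin (ZMod p) {toEnd ρ f}
  set x : A := ⟨toEnd ρ f, Algebra.self_mem_adjoin_singleton _ _⟩ with hx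
  set P := minpoly (ZMod p) (toEnd ρ f) with hP
  have hint : IsIntegral (ZMod p) (toEnd ρ f) := LinearMap.isIntegral _
  have hP0 : P ≠ 0 := minpoly.ne_zero hint
  have hdeg : P.natDegree ≤ finrank (ZMod p) V := by
    rw [← LinearMap.charpoly_natDegree (toEnd ρ f)]
    exact Polynomial.natDegree_le_of_dvd (LinearMap.minpoly_dvd_charpoly _)
      (LinearMap.charpoly_monic _).ne_zero
  set Q := P.map (algebraMap (ZMod p) A) with hQ
  have hQ0 : Q ≠ 0 := (Polynomial.map_ne_zero_iff (algebraMap (ZMod p) A).injective).2 hP0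
  have hroot : ∀ j ∈ J, x ^ j ∈ Q.roots.toFinset := by
    intro j hj
    rw [Multiset.mem_toFinset, Polynomial.mem_roots hQ0, Polynomial.IsRoot, hQ,
      Polynomial.eval_map_algebraMap]
    refine Subtype.ext ?_
    rw [← Subalgebra.coe_val, ← Polynomial.aeval_algHom_apply, map_pow, map_zero,
      show A.val x = toEnd ρ f from rfl, ← map_pow]
    obtain ⟨c, hc⟩ := isConj_iff.1 (hJ j hj)
    have e' : toEnd ρ (f ^ j) = (ρ c).conjAlgEquiv (ZMod p) (toEnd ρ f) := by
      rw [← hc]
      refine LinearMap.ext fun v => ?_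
      show ρ (c * f * c⁻¹) v = ρ c (ρ f ((ρ c).symm v))
      rw [apply_mul, apply_mul]
      congr 2
      apply (ρ c).injective
      rw [← apply_mul, mul_inv_cancel, apply_one, LinearEquiv.apply_symm_apply]
    rw [e', Polynomial.aeval_algHom_apply, hP, minpoly.aeval, map_zero]
  calc J.card ≤ Q.roots.toFinset.card := by
        refine Finset.card_le_card_of_injOn (fun j => x ^ j) hroot fun i hi j hj h => hinj hi hj ?_
        refine toEnd_injective ρ hρ ?_
        rw [map_pow, map_pow]
        exact congrArg Subtype.val h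
    _ ≤ Multiset.card Q.roots := Multiset.toFinset_card_le _
    _ ≤ Q.natDegree := Polynomial.card_roots' Q
    _ = P.natDegree := Polynomial.natDegree_map _
    _ ≤ _ := hdeg

end Commutant

section Orbits

theorem dvd_card_of_free {X : Type*} [Finite X] {C : Type*} [Group C] [MulAction C X]
    (hfree : ∀ (c : C) (x : X), c • x = x → c = 1) : Nat.card C ∣ Nat.card X := by
  classical
  have e := MulAction.selfEquivSigmaOrbits' C X
  have := Fintype.ofFinite (MulAction.orbitRel.Quotient C X)
  rw [Nat.card_congr e, Nat.card_sigma]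
  refine Finset.dvd_sum fun ω _ => ?_
  obtain ⟨x, rfl⟩ := Quotient.exists_rep ω
  have h1 : Nat.card C = Nat.card (MulAction.orbit C x) :=
    Nat.card_congr (Equiv.ofBijective (fun c => (⟨c • x, c, rfl⟩ : MulAction.orbit C x))
      ⟨fun a b h => by
        have h' : a • x = b • x := congrArg Subtype.val h
        exact (inv_mul_eq_one.1 (hfree (b⁻¹ * a) x (by rw [mul_smul, h', inv_smul_smul]))).symm,
       fun ⟨y, c, hc⟩ => ⟨c, Subtype.ext hc⟩⟩)
  rw [h1]
  exact dvd_of_eq (congrArg (fun s : Set X => Nat.card s) (MulAction.orbitRel.Quotient.orbit_mk x).symm)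

theorem natCard_submodule (W : Submodule (ZMod p) V) :
    Nat.card W = p ^ finrank (ZMod p) W := by
  rw [Module.natCard_eq_pow_finrank (K := ZMod p), Nat.card_zmod]

theorem natCard_space : Nat.card V = p ^ finrank (ZMod p) V := by
  rw [Module.natCard_eq_pow_finrank (K := ZMod p), Nat.card_zmod]

variable {ρ}

/-- An element of prime power order not dividing any `p ^ j - 1` below the dimension. -/
theorem irr_of_orderOf {l k : ℕ} (hl : l.Prime) (hlp : l ≠ p) {t : E}
    (ht : orderOf t = l ^ (k + 1)) (hρ : Function.Injective ρ)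
    (hdvd : ∀ j, 1 ≤ j → j < finrank (ZMod p) V → ¬ l ^ (k + 1) ∣ p ^ j - 1) : Irr ρ t := by
  classical
  have hp : p.Prime := Fact.out
  have hcop : ∀ a : ℕ, (l ^ (k + 1)).Coprime (p ^ a) := fun a =>
    ((Nat.coprime_primes hl hp).2 hlp).pow _ _
  set u := t ^ l ^ k with hu
  have hu1 : u ≠ 1 := by
    intro h
    have h1 := orderOf_dvd_of_pow_eq_one h
    rw [ht, Nat.pow_dvd_pow_iff_le_right hl.one_lt] at h1
    omega
  set F : Submodule (ZMod p) V := LinearMap.ker (toEnd ρ u - 1) with hF
  have hFmem : ∀ v, v ∈ F ↔ ρ u v = v := fun v => by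
    rw [hF, LinearMap.mem_ker, LinearMap.sub_apply, Module.End.one_apply, sub_eq_zero, toEnd_apply]
  have key : ∀ W : Submodule (ZMod p) V, (∀ w ∈ W, ρ t w ∈ W) → ¬ W ≤ F →
      l ^ (k + 1) ∣ p ^ (finrank (ZMod p) W - finrank (ZMod p) (W ⊓ F : Submodule (ZMod p) V)) - 1 ∧
        finrank (ZMod p) (W ⊓ F : Submodule (ZMod p) V) < finrank (ZMod p) W := by
    intro W hW hnF
    have hlt : (W ⊓ F : Submodule (ZMod p) V) < W :=
      lt_of_le_of_ne inf_le_left fun e => hnF (inf_eq_left.1 e)
    have hr := Submodule.finrank_lt_finrank_of_lt hlt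
    refine ⟨?_, hr⟩
    set X : Set V := (W : Set V) \ (F : Set V)
    have hpowW : ∀ (m : ℕ) (w : V), w ∈ W → ρ (t ^ m) w ∈ W := by
      intro m
      induction m with
      | zero => exact fun w hw => by rwa [pow_zero, apply_one]
      | succ m ih => exact fun w hw => by rw [pow_succ, apply_mul]; exact ih _ (hW w hw)
    have hmap : ∀ c : Subgroup.zpowers t, ∀ x ∈ X, ρ (c : E) x ∈ X := by
      rintro ⟨c, hc⟩ x ⟨hxW, hxF⟩
      obtain ⟨m, rfl⟩ := (mem_powers_iff_mem_zpowers.2 hc : c ∈ Submonoid.powers t)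
      refine ⟨hpowW m x hxW, fun h => hxF ?_⟩
      have h' : ρ u (ρ (t ^ m) x) = ρ (t ^ m) x := (hFmem _).1 h
      rw [← apply_mul, show u * t ^ m = t ^ m * u from ((Commute.refl t).pow_pow _ _).eq,
        apply_mul] at h'
      exact (hFmem x).2 ((ρ (t ^ m)).injective h')
    let _ : MulAction (Subgroup.zpowers t) X :=
      { smul := fun c x => ⟨ρ (c : E) x, hmap c x x.2⟩
        one_smul := fun x => Subtype.ext (apply_one ρ _)
        mul_smul := fun a b x => Subtype.ext (apply_mul ρ _ _ _) }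
    have hfree : ∀ (c : Subgroup.zpowers t) (x : X), c • x = x → c = 1 := by
      rintro ⟨c, hc⟩ ⟨x, hxW, hxF⟩ h
      have h' : ρ c x = x := congrArg Subtype.val h
      by_contra hc1
      have hc1' : c ≠ 1 := fun e => hc1 (Subtype.ext e)
      obtain ⟨m, rfl⟩ := (mem_powers_iff_mem_zpowers.2 hc : c ∈ Submonoid.powers t)
      have hall : ∀ i : ℕ, ρ ((t ^ m) ^ i) x = x := fun i => by
        induction i with
        | zero => rw [pow_zero, apply_one]
        | succ i ih => rw [pow_succ, apply_mul, h', ih]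
      -- `u` is a power of the element
      have hg : Nat.gcd m (l ^ (k + 1)) ∣ l ^ k := by
        obtain ⟨a, ha, hae⟩ := (Nat.dvd_prime_pow hl).1 (Nat.gcd_dvd_right m (l ^ (k + 1)))
        rw [hae]
        refine pow_dvd_pow l (Nat.le_of_lt_succ (lt_of_le_of_ne ha fun e => hc1' ?_))
        rw [e] at hae
        exact orderOf_dvd_iff_pow_eq_one.1 (ht ▸ hae ▸ Nat.gcd_dvd_left m (l ^ (k + 1)))
      have humem : u ∈ Subgroup.zpowers (t ^ m) := by
        have h1 : t ^ Nat.gcd m (orderOf t) ∈ Subgroup.zpowers (t ^ m) := by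
          refine ⟨Nat.gcdA m (orderOf t), ?_⟩
          show (t ^ m) ^ Nat.gcdA m (orderOf t) = t ^ Nat.gcd m (orderOf t)
          rw [← zpow_natCast t (Nat.gcd m _), Nat.gcd_eq_gcd_ab, zpow_add, zpow_mul, zpow_mul,
            zpow_natCast, zpow_natCast, pow_orderOf_eq_one, one_zpow, mul_one]
        obtain ⟨d, hd⟩ := hg
        rw [hu, hd, pow_mul, ← ht]
        exact pow_mem h1 d
      obtain ⟨i, hi⟩ := (mem_powers_iff_mem_zpowers.2 humem : u ∈ Submonoid.powers (t ^ m))
      exact hxF ((hFmem x).2 (by rw [← hi]; exact hall i))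
    have h := dvd_card_of_free hfree
    rw [Nat.card_zpowers, ht] at h
    set a := finrank (ZMod p) W
    set b := finrank (ZMod p) (W ⊓ F : Submodule (ZMod p) V)
    have hX : Nat.card X = p ^ b * (p ^ (a - b) - 1) := by
      rw [Nat.card_coe_set_eq, show X = (W : Set V) \ ((W ⊓ F : Submodule (ZMod p) V) : Set V) by
        ext x; simp [X], Set.ncard_sdiff (fun x hx => hx.1) (Set.toFinite _), ← Nat.card_coe_set_eq,
        ← Nat.card_coe_set_eq, SetLike.coe_sort_coe, SetLike.coe_sort_coe, natCard_submodule,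
        natCard_submodule, Nat.mul_sub, mul_one, ← pow_add, Nat.add_sub_cancel' hr.le]
    rw [hX] at h
    exact (hcop b).dvd_of_dvd_mul_left h
  intro W hW
  by_contra hcon
  push Not at hcon
  have hWlt : finrank (ZMod p) W < finrank (ZMod p) V := Submodule.finrank_lt hcon.2
  by_cases hWF : W ≤ F
  · have hFi : ∀ w ∈ (⊤ : Submodule (ZMod p) V), ρ t w ∈ (⊤ : Submodule (ZMod p) V) :=
      fun _ _ => trivial
    have hnF : ¬ (⊤ : Submodule (ZMod p) V) ≤ F := fun h => hu1 (hρ (LinearEquiv.ext fun v => by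
      rw [map_one]; exact (hFmem v).1 (h trivial)))
    obtain ⟨hd, hr⟩ := key ⊤ hFi hnF
    rw [finrank_top, top_inf_eq] at hd hr
    have hF1 : 1 ≤ finrank (ZMod p) F := by
      rcases Nat.eq_zero_or_pos (finrank (ZMod p) F) with h | h
      · exact absurd (le_bot_iff.1 (hWF.trans (le_of_eq (Submodule.finrank_eq_zero.1 h)))) hcon.1
      · exact h
    exact hdvd _ (by omega) (by omega) hd
  · obtain ⟨hd, hr⟩ := key W hW hWF
    exact hdvd _ (by omega) (by omega) hd

variable (htrans : ∀ v w : V, v ≠ 0 → w ≠ 0 → ∃ g : E, ρ g v = w)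
include htrans

/-- The stabilizer of a vector. -/
theorem card_stab_mul {v : V} (hv : v ≠ 0) :
    Nat.card {g : E // ρ g v = v} * (Nat.card V - 1) = Nat.card E := by
  classical
  let _ : MulAction E V :=
    { smul := fun g w => ρ g w, one_smul := apply_one ρ, mul_smul := apply_mul ρ }
  have ho : MulAction.orbit E v = {0}ᶜ := by
    ext w
    refine ⟨?_, fun hw => ?_⟩
    · rintro ⟨g, rfl⟩ h
      exact hv ((ρ g).injective (h.trans (map_zero _).symm))
    · obtain ⟨g, hg⟩ := htrans v w hv hw
      exact ⟨g, hg⟩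
  have h := MulAction.index_stabilizer E v
  rw [← Subgroup.card_mul_index (MulAction.stabilizer E v), h, ho, Set.ncard_compl,
    Set.ncard_singleton]
  rfl

theorem sub_one_dvd [Nontrivial V] : Nat.card V - 1 ∣ Nat.card E := by
  obtain ⟨v, hv⟩ := exists_ne (0 : V)
  exact ⟨_, by rw [← card_stab_mul htrans hv, mul_comm]⟩

/-- Minus the identity lies in the group. -/
theorem exists_neg_one (hρ : Function.Injective ρ) (hp2 : p ≠ 2) [Nontrivial V] (v : ℕ)
    (hv : 2 ^ v ∣ Nat.card V - 1)
    (hj : ∀ j, 1 ≤ j → j < finrank (ZMod p) V → ¬ 2 ^ v ∣ p ^ j - 1) :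
    ∃ z : E, ∀ w, ρ z w = -w := by
  classical
  have := Fact.mk Nat.prime_two
  obtain ⟨S⟩ := (inferInstance : Nonempty (Sylow 2 E))
  set e₂ := (Nat.card E).factorization 2 with he₂
  have hScard : Nat.card (S : Subgroup E) = 2 ^ e₂ := S.card_eq_multiplicity
  have hirr : ∀ W : Submodule (ZMod p) V, (∀ s ∈ (S : Subgroup E), ∀ w ∈ W, ρ s w ∈ W) →
      W = ⊥ ∨ W = ⊤ := by
    intro W hW
    by_contra hcon
    push Not at hcon
    have hlt := Submodule.finrank_lt hcon.2
    have hpos : 1 ≤ finrank (ZMod p) W := by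
      rcases Nat.eq_zero_or_pos (finrank (ZMod p) W) with h | h
      · exact absurd (Submodule.finrank_eq_zero.1 h) hcon.1
      · exact h
    refine hj _ hpos hlt ?_
    set X : Set V := (W : Set V) \ {0} with hX
    let _ : MulAction (S : Subgroup E) X :=
      { smul := fun s x => ⟨ρ (s : E) x, hW s s.2 x x.2.1, fun h => x.2.2
          ((ρ (s : E)).injective ((h : ρ (s : E) x = 0).trans (map_zero _).symm))⟩
        one_smul := fun x => Subtype.ext (apply_one ρ _)
        mul_smul := fun a b x => Subtype.ext (apply_mul ρ _ _ _) }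
    have hsum := Nat.card_congr (MulAction.selfEquivSigmaOrbits' (S : Subgroup E) X)
    have := Fintype.ofFinite (MulAction.orbitRel.Quotient (S : Subgroup E) X)
    rw [Nat.card_sigma] at hsum
    have hXc : Nat.card X = p ^ finrank (ZMod p) W - 1 := by
      rw [Nat.card_coe_set_eq, hX, Set.ncard_sdiff_singleton_of_mem (Submodule.zero_mem W),
        ← Nat.card_coe_set_eq, SetLike.coe_sort_coe, natCard_submodule]
    rw [← hXc, hsum]
    refine Finset.dvd_sum fun ω _ => ?_
    obtain ⟨x, rfl⟩ := Quotient.exists_rep ω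
    have hcong : Nat.card (MulAction.orbitRel.Quotient.orbit
        (Quotient.mk _ x : MulAction.orbitRel.Quotient (S : Subgroup E) X)) =
        Nat.card (MulAction.orbit (S : Subgroup E) x) :=
      congrArg (fun s : Set X => Nat.card s) (MulAction.orbitRel.Quotient.orbit_mk x)
    refine (dvd_trans ?_ (dvd_of_eq hcong.symm))
    rw [Nat.card_coe_set_eq, ← MulAction.index_stabilizer (S : Subgroup E) x]
    set St := MulAction.stabilizer (S : Subgroup E) x
    have hmul := St.card_mul_index
    rw [hScard] at hmul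
    obtain ⟨i, hi, hie⟩ := (Nat.dvd_prime_pow Nat.prime_two).1 ⟨_, hmul.symm.trans (mul_comm _ _)⟩
    obtain ⟨a, ha, hae⟩ := (Nat.dvd_prime_pow Nat.prime_two).1 ⟨_, hmul.symm⟩
    rw [hie]
    refine pow_dvd_pow 2 ?_
    have hx0 : (x : V) ≠ 0 := x.2.2
    let Ev : Subgroup E :=
      { carrier := {g | ρ g (x : V) = x}
        one_mem' := apply_one ρ _
        mul_mem' := fun {a b} ha hb => by
          show ρ (a * b) (x : V) = x
          rw [apply_mul, (hb : ρ b (x : V) = x), (ha : ρ a (x : V) = x)]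
        inv_mem' := fun {a} ha => by
          show ρ a⁻¹ (x : V) = x
          conv_lhs => rw [← (ha : ρ a (x : V) = x)]
          rw [← apply_mul, inv_mul_cancel, apply_one] }
    have hdvd : Nat.card St ∣ Nat.card {g : E // ρ g (x : V) = x} := by
      have h1 : St.map (S : Subgroup E).subtype ≤ Ev := by
        rintro _ ⟨s, hs, rfl⟩
        exact congrArg Subtype.val (MulAction.mem_stabilizer_iff.1 hs)
      have h2 := Subgroup.card_dvd_of_le h1
      rwa [Subgroup.card_map_of_injective (Subgroup.subtype_injective _)] at h2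
    have h3 : 2 ^ (a + v) ∣ 2 ^ e₂ := by
      have h4 : 2 ^ (a + v) ∣ Nat.card E := by
        rw [pow_add, ← card_stab_mul htrans hx0, ← hae]
        exact mul_dvd_mul hdvd hv
      exact pow_dvd_pow 2 ((Nat.prime_two.pow_dvd_iff_le_factorization Nat.card_pos.ne').1 h4)
    have h5 : a + i = e₂ := Nat.pow_right_injective le_rfl
      (show 2 ^ (a + i) = 2 ^ e₂ by rw [pow_add, ← hae, ← hie, hmul])
    have := (Nat.pow_dvd_pow_iff_le_right Nat.one_lt_two).1 h3
    omega
  have hSne : 1 < Nat.card (S : Subgroup E) := by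
    rw [hScard]
    refine Nat.one_lt_two_pow ?_
    have hp : p.Prime := Fact.out
    have h2 : 2 ∣ Nat.card V - 1 := by
      rw [natCard_space (p := p)]
      exact even_iff_two_dvd.1 (Nat.Odd.sub_odd ((hp.odd_of_ne_two hp2).pow) odd_one)
    exact (Nat.prime_two.factorization_pos_of_dvd Nat.card_pos.ne'
      (h2.trans (sub_one_dvd htrans))).ne'
  have := Finite.one_lt_card_iff_nontrivial.1 hSne
  have hnt := S.2.center_nontrivial
  obtain ⟨z, hz⟩ := exists_prime_orderOf_dvd_card' (G := Subgroup.center (S : Subgroup E)) 2 (by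
    obtain ⟨k, hk⟩ := IsPGroup.iff_card.1 (S.2.to_subgroup (Subgroup.center (S : Subgroup E)))
    have h1 : 1 < Nat.card (Subgroup.center (S : Subgroup E)) :=
      Finite.one_lt_card_iff_nontrivial.2 hnt
    rw [hk] at h1 ⊢
    exact dvd_pow_self 2 (by rintro rfl; simp at h1))
  set z' : E := ((z : (S : Subgroup E)) : E) with hz'
  have hzo : orderOf z' = 2 := by rw [hz', Subgroup.orderOf_coe, Subgroup.orderOf_coe, hz]
  have hzz : z' * z' = 1 := by rw [← pow_two, ← hzo, pow_orderOf_eq_one]
  refine ⟨z', fun w => ?_⟩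
  have hFx := hirr (LinearMap.ker (toEnd ρ z' - 1)) fun s hs w hw => by
    rw [LinearMap.mem_ker, LinearMap.sub_apply, Module.End.one_apply, sub_eq_zero, toEnd_apply]
      at hw ⊢
    have hc : z' * s = s * z' :=
      congrArg Subtype.val (Subgroup.mem_center_iff.1 z.2 ⟨s, hs⟩).symm
    rw [← apply_mul, hc, apply_mul, hw]
  rcases hFx with h | h
  · have hm : ρ z' w + w ∈ LinearMap.ker (toEnd ρ z' - 1) := by
      rw [LinearMap.mem_ker, LinearMap.sub_apply, Module.End.one_apply, sub_eq_zero, toEnd_apply,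
        map_add, ← apply_mul, hzz, apply_one, add_comm]
    rw [h, Submodule.mem_bot] at hm
    exact eq_neg_of_add_eq_zero_left hm
  · exfalso
    have h1 : z' = 1 := hρ (LinearEquiv.ext fun x => by
      have := LinearMap.congr_fun (LinearMap.ker_eq_top.1 h) x
      simp only [LinearMap.sub_apply, Module.End.one_apply, LinearMap.zero_apply, sub_eq_zero,
        toEnd_apply] at this
      rw [map_one]; exact this)
    rw [h1, orderOf_one] at hzo
    omega

end Orbits

section Scalar

variable {ρ} (hρ : Function.Injective ρ)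
include hρ

theorem central_of_scalar {z : E} {c : ZMod p} (hz : ∀ w, ρ z w = c • w) (g : E) :
    Commute g z :=
  hρ (LinearEquiv.ext fun w => by rw [apply_mul, apply_mul, hz, hz, map_smul])

theorem irr_mul_scalar {z f : E} {c : ZMod p} (hc : c ≠ 0) (hz : ∀ w, ρ z w = c • w)
    (hf : Irr ρ f) : Irr ρ (f * z) := fun W hW => hf W fun w hw => by
  have := W.smul_mem c⁻¹ (hW w hw)
  rwa [apply_mul, hz, map_smul, smul_smul, inv_mul_cancel₀ hc, one_smul] at this

end Scalar

variable {ρ}

/-- A scalar on a line of eigenvectors. -/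
theorem exists_line {g : E} (hfr : finrank (ZMod p) V = 2) (ε : ZMod p)
    (hne : LinearMap.ker (toEnd ρ g - ε • 1) ≠ ⊥) (hnt : LinearMap.ker (toEnd ρ g - ε • 1) ≠ ⊤) :
    ∃ v : V, v ≠ 0 ∧ ρ g v = ε • v ∧ ∀ w : V, ρ g w = ε • w → ∃ c : ZMod p, c • v = w := by
  have hmem : ∀ w : V, w ∈ LinearMap.ker (toEnd ρ g - ε • 1) ↔ ρ g w = ε • w := fun w => by
    rw [LinearMap.mem_ker, LinearMap.sub_apply, LinearMap.smul_apply, Module.End.one_apply,
      sub_eq_zero, toEnd_apply]
  have h1 := Submodule.finrank_lt hnt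
  have h2 : finrank (ZMod p) (LinearMap.ker (toEnd ρ g - ε • 1)) ≠ 0 := fun h =>
    hne (Submodule.finrank_eq_zero.1 h)
  obtain ⟨⟨v, hv⟩, hv0, hall⟩ := finrank_eq_one_iff'.1
    (show finrank (ZMod p) (LinearMap.ker (toEnd ρ g - ε • 1)) = 1 by omega)
  refine ⟨v, fun h => hv0 (Subtype.ext h), (hmem v).1 hv, fun w hw => ?_⟩
  obtain ⟨c, hc⟩ := hall ⟨w, (hmem w).2 hw⟩
  exact ⟨c, congrArg Subtype.val hc⟩


/-- The module of nine vectors. -/
theorem nine {p : ℕ} [Fact p.Prime] (hp : p = 3) {V : Type*} [AddCommGroup V] [Module (ZMod p) V]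
    [Finite V] {ρ : E →* (V ≃ₗ[ZMod p] V)} (hρ : Function.Injective ρ)
    (hfr : finrank (ZMod p) V = 2)
    (htrans : ∀ v w : V, v ≠ 0 → w ≠ 0 → ∃ g : E, ρ g v = w) (hpE : ¬ p ∣ Nat.card E)
    {z : E} (hz : ∀ w, ρ z w = -w)
    (hreg : ∀ f g : E, f ≠ 1 → g ≠ 1 → IsCyclic (Subgroup.centralizer ({f} : Set E)) →
      IsCyclic (Subgroup.centralizer ({g} : Set E)) → IsConj f g)
    (hirr4 : ∀ x : E, 4 ∣ orderOf x → (∃ k, orderOf x = 2 ^ k) → Irr ρ x) : False := by
  classical
  subst hp
  have := Fintype.ofFinite E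
  have := Fintype.ofFinite V
  have hq : Nat.card V = 9 := by rw [natCard_space (p := 3), hfr]; norm_num
  have : Nontrivial V := Finite.one_lt_card_iff_nontrivial.1 (by omega)
  have h8 : 8 ∣ Nat.card E := by have h := sub_one_dvd htrans; rwa [hq] at h
  have h48 : Nat.card E ∣ 48 := by
    let b := Module.finBasisOfFinrankEq (ZMod 3) V hfr
    let Φ : E →* GL (Fin 2) (ZMod 3) :=
      (Units.map (LinearMap.toMatrixAlgEquiv b).toMonoidHom).comp (toEnd ρ).toHomUnits
    have hΦ : Function.Injective Φ := fun x y h => toEnd_injective ρ hρ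
      ((LinearMap.toMatrixAlgEquiv b).injective (congrArg Units.val h :))
    have := Subgroup.card_dvd_of_injective Φ hΦ
    rwa [Matrix.card_GL_field, Fin.prod_univ_two, ZMod.card] at this
  have h16 : Nat.card E ∣ 16 := by
    have hc : (Nat.card E).Coprime 3 := (Nat.prime_three.coprime_iff_not_dvd.2 hpE).symm
    exact hc.dvd_of_dvd_mul_left h48
  obtain ⟨k₀, -, hk₀⟩ := (Nat.dvd_prime_pow Nat.prime_two (m := 4)).1 h16
  have hord : ∀ x : E, ∃ k, orderOf x = 2 ^ k := fun x => by
    have h := orderOf_dvd_natCard x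
    rw [hk₀] at h
    obtain ⟨k, -, hk⟩ := (Nat.dvd_prime_pow Nat.prime_two).1 h
    exact ⟨k, hk⟩
  set J := Finset.univ.filter fun x : E => 4 ∣ orderOf x
  set I := Finset.univ.filter fun x : E => x ≠ 1 ∧ x ≠ z ∧ x * x = 1
  have hcover : (Finset.univ : Finset E) ⊆ J ∪ I ∪ {1, z} := by
    intro x _
    obtain ⟨k, hk⟩ := hord x
    rcases Nat.lt_or_ge k 2 with hk2 | hk2
    · have hxx : x * x = 1 := by
        rw [← pow_two]
        exact orderOf_dvd_iff_pow_eq_one.1 (hk ▸ (pow_dvd_pow 2 (by omega : k ≤ 1)))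
      by_cases hx1 : x = 1
      · simp [hx1]
      by_cases hxz : x = z
      · simp [hxz]
      simp [I, hx1, hxz, hxx]
    · have : 4 ∣ orderOf x := hk ▸ pow_dvd_pow 2 hk2
      simp [J, this]
  set T := (Finset.univ : Finset (V × E)).filter fun a => a.1 ≠ 0 ∧ a.2 ≠ 1 ∧ ρ a.2 a.1 = a.1
  have hT : T.card = 8 * (Nat.card E / 8 - 1) := by
    rw [Finset.card_eq_sum_card_fiberwise (f := Prod.fst) (t := Finset.univ.erase (0 : V))
      (fun a ha => Finset.mem_erase.2 ⟨(Finset.mem_filter.1 ha).2.1, Finset.mem_univ _⟩),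
      Finset.sum_congr rfl (g := fun _ => Nat.card E / 8 - 1) fun w hw => ?_, Finset.sum_const,
      Finset.card_erase_of_mem (Finset.mem_univ _), Finset.card_univ, ← Nat.card_eq_fintype_card,
      hq, smul_eq_mul]
    have hw0 : w ≠ 0 := (Finset.mem_erase.1 hw).1
    have hst := card_stab_mul htrans hw0
    rw [hq] at hst
    rw [show Nat.card E / 8 = Nat.card {g : E // ρ g w = w} by omega,
      Nat.card_eq_fintype_card, Fintype.card_subtype,
      ← Finset.card_erase_of_mem (s := Finset.univ.filter fun g : E => ρ g w = w) (a := 1)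
        (Finset.mem_filter.2 ⟨Finset.mem_univ _, apply_one ρ w⟩)]
    refine Finset.card_bij (fun a _ => a.2) (fun a ha => ?_) (fun a ha b hb h => ?_) fun g hg => ?_
    · obtain ⟨h1, rfl⟩ := Finset.mem_filter.1 ha
      obtain ⟨-, -, h2, h3⟩ := Finset.mem_filter.1 h1
      exact Finset.mem_erase.2 ⟨h2, Finset.mem_filter.2 ⟨Finset.mem_univ _, h3⟩⟩
    · exact Prod.ext ((Finset.mem_filter.1 ha).2.trans (Finset.mem_filter.1 hb).2.symm) h
    · obtain ⟨h1, h2⟩ := Finset.mem_erase.1 hg
      exact ⟨(w, g), Finset.mem_filter.2 ⟨Finset.mem_filter.2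
        ⟨Finset.mem_univ _, hw0, h1, (Finset.mem_filter.1 h2).2⟩, rfl⟩, rfl⟩
  have hI : 2 * I.card ≤ T.card := by
    set T' := T.filter fun a => a.2 ∈ I
    refine le_trans ?_ (Finset.card_filter_le T fun a => a.2 ∈ I)
    rw [Finset.card_eq_sum_card_fiberwise (s := T.filter fun a => a.2 ∈ I) (f := Prod.snd) (t := I)
      (fun a ha => (Finset.mem_filter.1 ha).2), mul_comm, ← smul_eq_mul]
    refine Finset.card_nsmul_le_sum _ _ 2 fun x hx => ?_
    obtain ⟨-, hx1, hxz, hxx⟩ := Finset.mem_filter.1 hx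
    obtain ⟨w, hw⟩ : ∃ w, w + ρ x w ≠ 0 := by
      by_contra h
      push Not at h
      refine hxz (hρ (LinearEquiv.ext fun w => ?_))
      rw [hz]
      exact eq_neg_of_add_eq_zero_right (h w)
    set v := w + ρ x w with hv
    have hxv : ρ x v = v := by
      rw [hv, map_add, ← apply_mul, hxx, apply_one, add_comm]
    have hvne : v ≠ -v := fun h => hw (by
      have h3 : (2 : ZMod 3) • v = 0 := by
        rw [show (2 : ZMod 3) = 1 + 1 from rfl, add_smul, one_smul]
        nth_rw 1 [h]
        exact neg_add_cancel v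
      exact (smul_eq_zero.1 h3).resolve_left (by
        rw [show (2 : ZMod 3) = ((2 : ℕ) : ZMod 3) by norm_num, ZMod.natCast_eq_zero_iff]
        norm_num))
    have hmemT : ∀ u : V, u ≠ 0 → ρ x u = u →
        (u, x) ∈ (T.filter fun a => a.2 ∈ I).filter fun a => a.2 = x := fun u h1 h2 =>
      Finset.mem_filter.2 ⟨Finset.mem_filter.2 ⟨Finset.mem_filter.2
        ⟨Finset.mem_univ _, h1, hx1, h2⟩, hx⟩, rfl⟩
    refine le_trans (le_of_eq (Finset.card_pair (a := (v, x)) (b := (-v, x))
      fun h => hvne (congrArg Prod.fst h)).symm) (Finset.card_le_card ?_)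
    intro a ha
    rcases Finset.mem_insert.1 ha with rfl | ha
    · exact hmemT v hw hxv
    · rw [Finset.mem_singleton.1 ha]
      exact hmemT _ (neg_ne_zero.2 hw) (by rw [map_neg, hxv])
  have hE : Nat.card E ≤ J.card + I.card + 2 := by
    rw [Nat.card_eq_fintype_card, ← Finset.card_univ]
    refine le_trans (Finset.card_le_card hcover) (le_trans (Finset.card_union_le _ _) ?_)
    exact Nat.add_le_add (Finset.card_union_le _ _) Finset.card_le_two
  have hJ : J.card * 4 ≤ Nat.card E := by
    rcases J.eq_empty_or_nonempty with hJ | ⟨x, hx⟩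
    · simp [hJ]
    have hx4 := (Finset.mem_filter.1 hx).2
    have hsub : J ⊆ Finset.univ.image fun c : E => c * x * c⁻¹ := by
      intro y hy
      have hy4 := (Finset.mem_filter.1 hy).2
      have hne : ∀ {a : E}, 4 ∣ orderOf a → a ≠ 1 := fun ha e => by
        rw [e, orderOf_one] at ha; norm_num at ha
      obtain ⟨c, hc⟩ := isConj_iff.1 (hreg x y (hne hx4) (hne hy4)
        (isCyclic_centralizer (hirr4 x hx4 (hord x)) hρ)
        (isCyclic_centralizer (hirr4 y hy4 (hord y)) hρ))
      exact Finset.mem_image.2 ⟨c, Finset.mem_univ _, hc⟩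
    refine le_trans (Nat.mul_le_mul_right 4 (Finset.card_le_card hsub)) ?_
    have hfib : ∀ y ∈ Finset.univ.image (fun c : E => c * x * c⁻¹),
        4 ≤ ((Finset.univ : Finset E).filter fun c => c * x * c⁻¹ = y).card := by
      intro y hy
      obtain ⟨c₀, -, rfl⟩ := Finset.mem_image.1 hy
      have hcle : (Finset.range 4).card ≤
          ((Finset.univ : Finset E).filter fun c => c * x * c⁻¹ = c₀ * x * c₀⁻¹).card := by
        refine Finset.card_le_card_of_injOn (fun i => c₀ * x ^ i) (fun i _ => ?_) ?_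
        · refine Finset.mem_filter.2 ⟨Finset.mem_univ _, ?_⟩
          rw [mul_assoc c₀ (x ^ i) x, (Commute.refl x).pow_left i |>.eq]
          group
        · intro i hi j hj h
          have h4 : 4 ≤ orderOf x := Nat.le_of_dvd (orderOf_pos x) hx4
          exact pow_injOn_Iio_orderOf (by simp at hi ⊢; omega) (by simp at hj ⊢; omega)
            (mul_left_cancel h)
      simpa using hcle
    rw [Nat.card_eq_fintype_card, ← Finset.card_univ (α := E),
      Finset.card_eq_sum_card_fiberwise (f := fun c : E => c * x * c⁻¹)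
        (t := Finset.univ.image fun c : E => c * x * c⁻¹) (fun c hc => Finset.mem_image_of_mem _ hc),
      ← smul_eq_mul]
    exact Finset.card_nsmul_le_sum _ _ 4 hfib
  omega

/-- The plane over a prime one less than a power of two. -/
theorem mersenne (hρ : Function.Injective ρ) (hfr : finrank (ZMod p) V = 2)
    (htrans : ∀ v w : V, v ≠ 0 → w ≠ 0 → ∃ g : E, ρ g v = w) (hp5 : 3 < p) (hp4 : ¬ 4 ∣ p - 1)
    (hp1 : ∀ l : ℕ, l.Prime → l ≠ 2 → ¬ l ∣ p + 1)
    (h8 : 8 ∣ Nat.card E) {z : E} (hzs : ∀ w, ρ z w = (-1 : ZMod p) • w)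
    (hsame : ∀ f g : E, f ≠ 1 → g ≠ 1 → Irr ρ f → Irr ρ g → orderOf f = orderOf g)
    (hodd : ∀ l : ℕ, l.Prime → l % 4 = 3 → l ∣ Nat.card E →
      Even ((Nat.card E).factorization l))
    (hirr4 : ∀ x : E, 4 ∣ orderOf x → (∃ k, orderOf x = 2 ^ k) → Irr ρ x) : False := by
  classical
  have hp : p.Prime := Fact.out
  have hp2 : p ≠ 2 := by omega
  have hq : Nat.card V = p ^ 2 := by rw [natCard_space (p := p), hfr]
  have : Nontrivial V := Finite.one_lt_card_iff_nontrivial.1 (by rw [hq]; nlinarith)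
  have htwo : (2 : ZMod p) ≠ 0 := by
    rw [show (2 : ZMod p) = ((2 : ℕ) : ZMod p) by norm_num, ne_eq, ZMod.natCast_eq_zero_iff]
    exact fun h => absurd (Nat.le_of_dvd two_pos h) (by omega)
  -- an element of order four
  obtain ⟨x, hx⟩ : ∃ x : E, orderOf x = 4 := by
    have := Fact.mk Nat.prime_two
    obtain ⟨S, hS⟩ := Sylow.exists_subgroup_card_pow_prime 2 (n := 3) (G := E) h8
    by_contra hno
    push Not at hno
    have hsq : ∀ s ∈ S, s * s = 1 := by
      intro s hs
      obtain ⟨i, -, hio⟩ := (Nat.dvd_prime_pow Nat.prime_two).1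
        (hS ▸ Subgroup.orderOf_dvd_natCard S hs)
      rcases Nat.lt_or_ge i 2 with hi | hi
      · rw [← pow_two]
        exact orderOf_dvd_iff_pow_eq_one.1 (hio ▸ pow_dvd_pow 2 (by omega : i ≤ 1))
      · refine absurd ?_ (hno (s ^ 2 ^ (i - 2)))
        rw [orderOf_pow' _ (by positivity), hio, Nat.gcd_eq_right (pow_dvd_pow 2 (by omega)),
          Nat.pow_div (by omega) two_pos, show i - (i - 2) = 2 by omega]
        norm_num
    have hcomm : ∀ a ∈ S, ∀ b ∈ S, a * b = b * a := fun a ha b hb => by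
      calc a * b = a⁻¹ * b⁻¹ := by rw [inv_eq_of_mul_eq_one_right (hsq a ha),
            inv_eq_of_mul_eq_one_right (hsq b hb)]
        _ = (b * a)⁻¹ := (mul_inv_rev b a).symm
        _ = b * a := inv_eq_of_mul_eq_one_right (hsq _ (S.mul_mem hb ha))
    obtain ⟨g, hg, hg1, hgz⟩ : ∃ g ∈ S, g ≠ 1 ∧ g ≠ z := by
      by_contra h
      push Not at h
      have h2 : (S : Set E) ⊆ {1, z} := fun s hs => by
        by_cases hs1 : s = 1
        · simp [hs1]
        · simp [h s hs hs1]
      have h3 := Set.ncard_le_ncard h2 (Set.toFinite _)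
      rw [← Nat.card_coe_set_eq, SetLike.coe_sort_coe, hS] at h3
      have h4 : ({1, z} : Set E).ncard ≤ 2 := (Set.ncard_insert_le _ _).trans (by simp)
      omega
    have hgg : ∀ w, ρ g (ρ g w) = w := fun w => by rw [← apply_mul, hsq g hg, apply_one]
    have hK1 : LinearMap.ker (toEnd ρ g - (1 : ZMod p) • 1) ≠ ⊤ := fun h => hg1
      (hρ (LinearEquiv.ext fun w => by
        have := LinearMap.congr_fun (LinearMap.ker_eq_top.1 h) w
        simp only [one_smul, LinearMap.sub_apply, Module.End.one_apply, LinearMap.zero_apply,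
          sub_eq_zero, toEnd_apply] at this
        rw [map_one]; exact this))
    have hK2 : LinearMap.ker (toEnd ρ g - (-1 : ZMod p) • 1) ≠ ⊤ := fun h => hgz
      (hρ (LinearEquiv.ext fun w => by
        have := LinearMap.congr_fun (LinearMap.ker_eq_top.1 h) w
        simp only [LinearMap.sub_apply, LinearMap.smul_apply, Module.End.one_apply,
          LinearMap.zero_apply, sub_eq_zero, toEnd_apply] at this
        rw [hzs]; exact this))
    have hsum : ∀ w, (2 : ZMod p)⁻¹ • (w + ρ g w) + (2 : ZMod p)⁻¹ • (w - ρ g w) = w := fun w => by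
      rw [← smul_add, add_add_sub_cancel, ← two_smul (ZMod p) w, smul_smul,
        inv_mul_cancel₀ htwo, one_smul]
    have hmem1 : ∀ w, (2 : ZMod p)⁻¹ • (w + ρ g w) ∈
        LinearMap.ker (toEnd ρ g - (1 : ZMod p) • 1) := fun w => by
      rw [LinearMap.mem_ker, LinearMap.sub_apply, LinearMap.smul_apply, Module.End.one_apply,
        sub_eq_zero, toEnd_apply, one_smul, map_smul, map_add, hgg, add_comm]
    have hmem2 : ∀ w, (2 : ZMod p)⁻¹ • (w - ρ g w) ∈
        LinearMap.ker (toEnd ρ g - (-1 : ZMod p) • 1) := fun w => by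
      rw [LinearMap.mem_ker, LinearMap.sub_apply, LinearMap.smul_apply, Module.End.one_apply,
        sub_eq_zero, toEnd_apply, neg_smul, one_smul, map_smul, map_sub, hgg, ← smul_neg, neg_sub]
    obtain ⟨v₁, hv₁, he₁, hl₁⟩ := exists_line hfr (1 : ZMod p) (fun h => hK2 (eq_top_iff.2
      fun w _ => by
        have h' := hmem1 w
        rw [h, Submodule.mem_bot] at h'
        have := hsum w
        rw [h', zero_add] at this
        rw [← this]; exact hmem2 w)) hK1
    obtain ⟨v₂, hv₂, he₂, hl₂⟩ := exists_line hfr (-1 : ZMod p) (fun h => hK1 (eq_top_iff.2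
      fun w _ => by
        have h' := hmem2 w
        rw [h, Submodule.mem_bot] at h'
        have := hsum w
        rw [h', add_zero] at this
        rw [← this]; exact hmem1 w)) hK2
    have hpm : ∀ (v : V) (ε : ZMod p), v ≠ 0 → ρ g v = ε • v →
        (∀ w, ρ g w = ε • w → ∃ c : ZMod p, c • v = w) →
        ∀ s ∈ S, ρ s v = v ∨ ρ s v = -v := by
      intro v ε hv he hl s hs
      obtain ⟨c, hc⟩ := hl (ρ s v) (by rw [← apply_mul, hcomm g hg s hs, apply_mul, he, map_smul])
      have h1 : (c * c) • v = v := by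
        rw [← smul_smul, hc, ← map_smul, hc, ← apply_mul, hsq s hs, apply_one]
      have h2 : (c * c - 1) • v = 0 := by rw [sub_smul, h1, one_smul, sub_self]
      rcases mul_self_eq_one_iff.1 (sub_eq_zero.1 ((smul_eq_zero.1 h2).resolve_right hv)) with
        rfl | rfl
      · left; rw [← hc, one_smul]
      · right; rw [← hc, neg_smul, one_smul]
    let m : S → Bool × Bool := fun s => (decide (ρ (s : E) v₁ = v₁), decide (ρ (s : E) v₂ = v₂))
    have hm : Function.Injective m := by
      intro a b hab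
      simp only [m, Prod.mk.injEq, decide_eq_decide] at hab
      have key : ∀ v, (ρ (a : E) v = v ∨ ρ (a : E) v = -v) → (ρ (b : E) v = v ∨ ρ (b : E) v = -v) →
          (ρ (a : E) v = v ↔ ρ (b : E) v = v) → ρ (a : E) v = ρ (b : E) v := by
        intro v ha hb hiff
        by_cases h : ρ (a : E) v = v
        · rw [h, hiff.1 h]
        · rw [ha.resolve_left h, hb.resolve_left fun h' => h (hiff.2 h')]
      have e1 := key v₁ (hpm v₁ 1 hv₁ he₁ hl₁ a a.2) (hpm v₁ 1 hv₁ he₁ hl₁ b b.2) hab.1
      have e2 := key v₂ (hpm v₂ (-1) hv₂ he₂ hl₂ a a.2) (hpm v₂ (-1) hv₂ he₂ hl₂ b b.2) hab.2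
      refine Subtype.ext (hρ (LinearEquiv.ext fun w => ?_))
      have h1 := hmem1 w
      have h2 := hmem2 w
      rw [LinearMap.mem_ker, LinearMap.sub_apply, LinearMap.smul_apply, Module.End.one_apply,
        sub_eq_zero, toEnd_apply] at h1 h2
      obtain ⟨c₁, hc₁⟩ := hl₁ _ h1
      obtain ⟨c₂, hc₂⟩ := hl₂ _ h2
      rw [← hsum w, map_add, map_add, ← hc₁, ← hc₂, map_smul, map_smul, map_smul, map_smul, e1, e2]
    have h9 := Nat.card_le_card_of_injective m hm
    rw [hS] at h9
    norm_num at h9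
  have hxi : Irr ρ x := hirr4 x (by rw [hx]) ⟨2, by rw [hx]; norm_num⟩
  have hx1 : x ≠ 1 := fun e => by rw [e, orderOf_one] at hx; omega
  -- a prime congruent to three
  obtain ⟨a, ha⟩ : ∃ a, p = 4 * a + 3 := ⟨p / 4, by
    obtain ⟨b, hb⟩ := hp.odd_of_ne_two hp2
    omega⟩
  have hm : (p - 1) / 2 = 2 * a + 1 := by omega
  have hfac : p - 1 = 2 * (2 * a + 1) := by omega
  obtain ⟨l, hl, hl4, hlodd⟩ : ∃ l : ℕ, l.Prime ∧ l % 4 = 3 ∧
      ¬ Even ((p - 1).factorization l) := by
    by_contra h
    push Not at h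
    have ha_odd : ¬ 2 ∣ a := by
      rintro ⟨b, rfl⟩
      obtain ⟨r, hr, hrd⟩ := Nat.exists_prime_and_dvd (show 2 * b + 1 ≠ 1 by omega)
      refine hp1 r hr ?_ (hrd.trans ⟨4, by omega⟩)
      rintro rfl
      omega
    have hs : ∃ u v : ℕ, 2 * a + 1 = u ^ 2 + v ^ 2 := by
      rw [Nat.eq_sq_add_sq_iff]
      intro r hr hr4
      have hrp := Nat.prime_of_mem_primeFactors hr
      have := h r hrp hr4
      rw [hfac, Nat.factorization_mul (by norm_num) (by omega), Finsupp.add_apply,
        Nat.factorization_eq_zero_of_not_dvd (fun h2 => by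
          have := Nat.le_of_dvd two_pos h2; have := hrp.two_le; omega), zero_add,
        Nat.factorization_def _ hrp] at this
      exact this
    obtain ⟨u, v, huv⟩ := hs
    have h1 : (2 * a + 1) % 4 = 3 := by omega
    rw [huv, Nat.add_mod, Nat.pow_mod u, Nat.pow_mod v] at h1
    have := Nat.mod_lt u (by norm_num : 4 > 0)
    have := Nat.mod_lt v (by norm_num : 4 > 0)
    interval_cases u % 4 <;> interval_cases v % 4 <;> norm_num at h1
  have := Fact.mk hl
  have hl2 : l ≠ 2 := by omega
  have hl3 : 3 ≤ l := by omega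
  set w := (p - 1).factorization l with hw
  have hlp1 : ¬ l ∣ p + 1 := hp1 l hl hl2
  have hlp : ¬ l ∣ p := fun h => by
    have he := (Nat.prime_dvd_prime_iff_eq hl hp).1 h
    rw [← he] at hw
    have : w = 0 := hw.trans (Nat.factorization_eq_zero_of_not_dvd fun h' =>
      absurd (Nat.le_of_dvd (by omega) h') (by omega))
    refine hlodd ?_
    show Even w
    rw [this]
    exact Even.zero
  have hlow : w ≤ (Nat.card E).factorization l := by
    have hd := sub_one_dvd htrans
    rw [hq] at hd
    exact (hl.pow_dvd_iff_le_factorization Nat.card_pos.ne').1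
      ((Nat.ordProj_dvd (p - 1) l).trans ((show p - 1 ∣ p ^ 2 - 1 from ⟨p + 1, by rw [mul_comm]; simpa using Nat.sq_sub_sq p 1⟩).trans hd))
  obtain ⟨L⟩ := (inferInstance : Nonempty (Sylow l E))
  -- no scalar in the Sylow subgroup
  have hnos : ∀ g ∈ (L : Subgroup E), ∀ c : (ZMod p)ˣ, (∀ v, ρ g v = (c : ZMod p) • v) → g = 1 := by
    intro g hg c hc
    by_contra hg1
    obtain ⟨k, hk⟩ := IsPGroup.iff_orderOf.1 L.2 ⟨g, hg⟩
    rw [Subgroup.orderOf_mk] at hk
    have hcop : (orderOf x).Coprime (orderOf g) := by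
      rw [hx, hk, show (4 : ℕ) = 2 ^ 2 by norm_num]
      exact ((Nat.coprime_primes Nat.prime_two hl).2 (Ne.symm hl2)).pow _ _
    have ho := (central_of_scalar hρ hc x).orderOf_mul_eq_mul_orderOf_of_coprime hcop
    have hne : x * g ≠ 1 := fun e => by
      rw [e, orderOf_one, hx] at ho
      omega
    have h := hsame x (x * g) hx1 hne hxi (irr_mul_scalar hρ c.ne_zero hc hxi)
    rw [ho, hx] at h
    exact hg1 (orderOf_eq_one_iff.1 (by omega))
  have hup : (Nat.card E).factorization l ≤ w := by
    let b := Module.finBasisOfFinrankEq (ZMod p) V hfr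
    let sc : (ZMod p)ˣ →* (Module.End (ZMod p) V)ˣ :=
      Units.map (algebraMap (ZMod p) (Module.End (ZMod p) V)).toMonoidHom
    have hsc : ∀ (c : (ZMod p)ˣ) (v : V),
        ((sc c : (Module.End (ZMod p) V)ˣ) : Module.End (ZMod p) V) v = (c : ZMod p) • v :=
      fun c v => rfl
    let Φ : ↥(L : Subgroup E) × (ZMod p)ˣ →* (Module.End (ZMod p) V)ˣ :=
      MonoidHom.noncommCoprod ((toEnd ρ).toHomUnits.comp (L : Subgroup E).subtype) sc fun g c =>
        Units.ext (LinearMap.ext fun v => by
          show ρ (g : E) ((c : ZMod p) • v) = (c : ZMod p) • ρ (g : E) v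
          exact map_smul _ _ _)
    have hΦ : Function.Injective Φ := by
      refine (injective_iff_map_eq_one Φ).2 fun ⟨g, c⟩ h => ?_
      have hv : ∀ v, ρ (g : E) ((c : ZMod p) • v) = v := fun v =>
        LinearMap.congr_fun (congrArg Units.val h :) v
      have hg : (g : E) = 1 := hnos g g.2 c⁻¹ fun v => by
        have := hv ((c⁻¹ : (ZMod p)ˣ) • v)
        rwa [Units.smul_def, smul_smul, Units.mul_inv, one_smul] at this
      refine Prod.ext (Subtype.ext hg) (Units.ext ?_)
      obtain ⟨v, hv0⟩ := exists_ne (0 : V)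
      have h1 := hv v
      rw [hg, apply_one] at h1
      have h2 : ((c : ZMod p) - 1) • v = 0 := by rw [sub_smul, h1, one_smul, sub_self]
      exact sub_eq_zero.1 ((smul_eq_zero.1 h2).resolve_right hv0)
    have hd := Subgroup.card_dvd_of_injective
      ((Units.map (LinearMap.toMatrixAlgEquiv b).toMonoidHom).comp Φ)
      (fun u v h => hΦ (Units.ext ((LinearMap.toMatrixAlgEquiv b).injective
        (congrArg Units.val h :))))
    rw [Nat.card_prod, L.card_eq_multiplicity, Nat.card_units, Nat.card_zmod,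
      Matrix.card_GL_field, Fin.prod_univ_two, ZMod.card] at hd
    have hprod : (p ^ 2 - p ^ ((0 : Fin 2) : ℕ)) * (p ^ 2 - p ^ ((1 : Fin 2) : ℕ)) =
        (p + 1) * p * ((p - 1) * (p - 1)) := by
      have h1 : p ^ 2 - 1 = (p + 1) * (p - 1) := by simpa using Nat.sq_sub_sq p 1
      simp only [Fin.val_zero, Fin.val_one, pow_zero, pow_one, h1]
      rw [show p ^ 2 - p = p * (p - 1) by rw [Nat.mul_sub, mul_one, pow_two]]
      ring
    rw [hprod] at hd
    obtain ⟨r, hr⟩ := Nat.ordProj_dvd (p - 1) l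
    have hd' : l ^ (Nat.card E).factorization l ∣ (p + 1) * p * (p - 1) :=
      Nat.dvd_of_mul_dvd_mul_right (show 0 < p - 1 by omega) (by rw [mul_assoc _ (p - 1)]; exact hd)
    have := (hl.pow_dvd_iff_le_factorization
      (mul_ne_zero (mul_ne_zero (by omega) (by omega)) (by omega))).1 hd'
    rwa [Nat.factorization_mul (mul_ne_zero (by omega) (by omega)) (by omega),
      Nat.factorization_mul (by omega) (by omega), Finsupp.add_apply, Finsupp.add_apply,
      Nat.factorization_eq_zero_of_not_dvd hlp1, Nat.factorization_eq_zero_of_not_dvd hlp,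
      zero_add, zero_add] at this
  have heq : (Nat.card E).factorization l = w := le_antisymm hup hlow
  refine hlodd (heq ▸ hodd l hl hl4 ?_)
  refine (Nat.dvd_of_factorization_pos ?_)
  rw [heq]
  intro h0
  refine hlodd ?_
  show Even w
  rw [h0]
  exact Even.zero

/-- **The linear group.** -/
theorem natCard_eq_three [Nontrivial V] (hp2 : p ≠ 2) (hρ : Function.Injective ρ)
    (hpE : ¬ p ∣ Nat.card E)
    (htrans : ∀ v w : V, v ≠ 0 → w ≠ 0 → ∃ g : E, ρ g v = w)
    (hreg : ∀ f g : E, f ≠ 1 → g ≠ 1 → IsCyclic (Subgroup.centralizer ({f} : Set E)) →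
      IsCyclic (Subgroup.centralizer ({g} : Set E)) → IsConj f g)
    (hsq : ∃ a b : ℕ, Nat.card E = a ^ 2 + b ^ 2) :
    Nat.card V = 3 := by
  classical
  have hp : p.Prime := Fact.out
  have hp3 : 3 ≤ p := by have := hp.two_le; omega
  set n := finrank (ZMod p) V with hn
  have hq : Nat.card V = p ^ n := natCard_space
  have hn1 : 1 ≤ n := Module.finrank_pos
  have hdvd := sub_one_dvd htrans
  rw [hq] at hdvd
  have hsame : ∀ f g : E, f ≠ 1 → g ≠ 1 → Irr ρ f → Irr ρ g → orderOf f = orderOf g := by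
    intro f g hf1 hg1 hf hg
    obtain ⟨c, hc⟩ := isConj_iff.1
      (hreg f g hf1 hg1 (isCyclic_centralizer hf hρ) (isCyclic_centralizer hg hρ))
    rw [← hc]
    exact (MulEquiv.orderOf_eq (MulAut.conj c) f).symm
  have hodd : ∀ l : ℕ, l.Prime → l % 4 = 3 → l ∣ Nat.card E →
      Even ((Nat.card E).factorization l) := by
    intro l hl hl4 hld
    rw [Nat.factorization_def _ hl]
    exact Nat.eq_sq_add_sq_iff.1 hsq l (Nat.mem_primeFactors.2 ⟨hl, hld, Nat.card_pos.ne'⟩) hl4
  rcases (show n = 1 ∨ n = 2 ∨ 3 ≤ n by omega) with h1 | h2 | h3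
  · -- a line
    have hirr : ∀ g : E, Irr ρ g := fun g W _ => by
      rcases Nat.eq_zero_or_pos (finrank (ZMod p) W) with h | h
      · exact Or.inl (Submodule.finrank_eq_zero.1 h)
      · exact Or.inr (Submodule.eq_top_of_finrank_eq (by
          have := W.finrank_le; omega))
    have hcomm : ∀ g h : E, g * h = h * g := by
      intro g h
      refine hρ (LinearEquiv.ext fun w => ?_)
      obtain ⟨v, hv, hall⟩ := finrank_eq_one_iff'.1 (hn.symm.trans h1)
      obtain ⟨a, ha⟩ := hall (ρ g v)
      obtain ⟨b, hb⟩ := hall (ρ h v)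
      obtain ⟨c, rfl⟩ := hall w
      rw [apply_mul, apply_mul, map_smul, map_smul, map_smul, map_smul, ← hb, map_smul, ← ha,
        map_smul, ← hb, smul_comm a b]
    have hle : Nat.card E ≤ 2 := by
      by_contra hgt
      have := Fintype.ofFinite E
      obtain ⟨f, g, e, hfg, hfe, hge⟩ := Fintype.two_lt_card_iff.1
        (show 2 < Fintype.card E by rw [← Nat.card_eq_fintype_card]; omega)
      have key : ∀ x y : E, x ≠ 1 → y ≠ 1 → x = y := by
        intro x y hx hy
        obtain ⟨c, hc⟩ := isConj_iff.1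
          (hreg x y hx hy (isCyclic_centralizer (hirr x) hρ) (isCyclic_centralizer (hirr y) hρ))
        rw [← hc, hcomm c x, mul_inv_cancel_right]
      rcases eq_or_ne f 1 with rfl | hf
      · exact hge (key g e hfg.symm hfe.symm)
      rcases eq_or_ne g 1 with rfl | hg
      · exact hfe (key f e hf hge.symm)
      exact hfg (key f g hf hg)
    have := Nat.le_of_dvd Nat.card_pos hdvd
    rw [hq, h1, pow_one]
    rw [h1, pow_one] at this
    omega
  · -- a plane
    rw [h2] at hdvd hq
    have hfr : finrank (ZMod p) V = 2 := hn.symm.trans h2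
    have hsqfac : p ^ 2 - 1 = (p + 1) * (p - 1) := by simpa using Nat.sq_sub_sq p 1
    have hnd : ∀ {d : ℕ}, ¬ d ∣ p - 1 → ∀ j, 1 ≤ j → j < finrank (ZMod p) V → ¬ d ∣ p ^ j - 1 := by
      intro d hd j hj1 hj2
      obtain rfl : j = 1 := by omega
      rwa [pow_one]
    have h2v : (2 : ℕ) ^ ((p ^ 2 - 1).factorization 2) ∣ p ^ 2 - 1 := Nat.ordProj_dvd _ _
    have h1p : p ^ 2 - 1 ≠ 0 := by
      rw [hsqfac]
      exact mul_ne_zero (by omega) (by omega)
    have h2v' : ¬ (2 : ℕ) ^ ((p ^ 2 - 1).factorization 2) ∣ p - 1 := by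
      intro h
      rw [Nat.prime_two.pow_dvd_iff_le_factorization (by omega)] at h
      rw [hsqfac, Nat.factorization_mul (by omega) (by omega), Finsupp.add_apply] at h
      have : 0 < (p + 1).factorization 2 := Nat.prime_two.factorization_pos_of_dvd (by omega)
        (even_iff_two_dvd.1 ((hp.odd_of_ne_two hp2).add_one))
      omega
    obtain ⟨z, hz⟩ := exists_neg_one htrans hρ hp2 _ (hq ▸ h2v) (hnd h2v')
    have hzs : ∀ w, ρ z w = (-1 : ZMod p) • w := fun w => by rw [hz, neg_smul, one_smul]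
    have hm1 : (-1 : ZMod p) ≠ 0 := neg_ne_zero.2 one_ne_zero
    have hz1 : z ≠ 1 := by
      intro h
      obtain ⟨v, hv⟩ := exists_ne (0 : V)
      have h1 := hz v
      rw [h, apply_one] at h1
      have h3 : (2 : ZMod p) • v = 0 := by
        rw [show (2 : ZMod p) = 1 + 1 by norm_num, add_smul, one_smul]
        nth_rw 1 [h1]
        exact neg_add_cancel v
      rcases smul_eq_zero.1 h3 with h4 | h4
      · rw [show (2 : ZMod p) = ((2 : ℕ) : ZMod p) by norm_num, ZMod.natCast_eq_zero_iff] at h4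
        exact absurd (Nat.le_of_dvd (by omega) h4) (by omega)
      · exact hv h4
    have hzo : orderOf z = 2 := orderOf_eq_prime (hρ (LinearEquiv.ext fun w => by
      rw [pow_two, apply_mul, hz, hz, neg_neg, map_one]; rfl)) hz1
    by_cases hA : ∃ l : ℕ, l.Prime ∧ l ≠ 2 ∧ l ∣ p + 1
    · -- an odd primitive prime
      exfalso
      obtain ⟨l, hl, hl2, hld⟩ := hA
      have := Fact.mk hl
      have hl3 : 3 ≤ l := by have := hl.two_le; omega
      obtain ⟨t, ht⟩ := exists_prime_orderOf_dvd_card' (G := E) l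
        ((hld.trans (Dvd.intro _ hsqfac.symm)).trans hdvd)
      have hlp : l ≠ p := by
        rintro rfl
        have h0 : l ∣ 1 := (Nat.dvd_add_right (dvd_refl l)).1 hld
        exact hl.one_lt.ne' (Nat.dvd_one.1 h0)
      have hnd' : ¬ l ∣ p - 1 := fun h => by
        have h' := Nat.dvd_sub hld h
        rw [show p + 1 - (p - 1) = 2 by omega] at h'
        exact absurd (Nat.le_of_dvd two_pos h') (by omega)
      have hti : Irr ρ t := irr_of_orderOf (k := 0) hl hlp (by rw [ht, zero_add, pow_one]) hρ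
        (by rw [zero_add, pow_one]; exact hnd hnd')
      have ht1 : t ≠ 1 := fun e => by rw [e, orderOf_one] at ht; omega
      have hcop : (orderOf t).Coprime (orderOf z) := by
        rw [ht, hzo]; exact (Nat.coprime_primes hl Nat.prime_two).2 hl2
      have ho := (central_of_scalar hρ hzs t).orderOf_mul_eq_mul_orderOf_of_coprime hcop
      rw [ht, hzo] at ho
      have htz1 : t * z ≠ 1 := fun e => by rw [e, orderOf_one] at ho; omega
      have h := hsame t (t * z) ht1 htz1 hti (irr_mul_scalar hρ hm1 hzs hti)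
      rw [ht, ho] at h
      omega
    -- `p + 1` is a power of two
    push Not at hA
    have hp4 : ¬ 4 ∣ p - 1 := by
      intro h4
      have hh : ∀ l : ℕ, l.Prime → l ∣ (p + 1) / 2 → False := by
        intro l hl hld
        have hl2 : l ≠ 2 := by
          rintro rfl
          omega
        exact hA l hl hl2 (hld.trans (Nat.div_dvd_of_dvd (by omega)))
      obtain ⟨l, hl, hld⟩ := Nat.exists_prime_and_dvd (show (p + 1) / 2 ≠ 1 by omega)
      exact hh l hl hld
    have h8 : 8 ∣ Nat.card E := by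
      refine dvd_trans ?_ hdvd
      obtain ⟨a, ha⟩ : Odd p := hp.odd_of_ne_two hp2
      obtain ⟨b, rfl⟩ : ∃ b, a = 2 * b + 1 := ⟨a / 2, by omega⟩
      rw [hsqfac, ha, show 2 * (2 * b + 1) + 1 + 1 = 4 * (b + 1) by ring,
        show 2 * (2 * b + 1) + 1 - 1 = 2 * (2 * b + 1) by omega]
      exact ⟨(b + 1) * (2 * b + 1), by ring⟩
    have hirr4 : ∀ x : E, 4 ∣ orderOf x → (∃ k, orderOf x = 2 ^ k) → Irr ρ x := by
      rintro x h4 ⟨k, hk⟩
      obtain ⟨i, rfl⟩ : ∃ i, k = i + 1 := ⟨k - 1, by
        rcases Nat.eq_zero_or_pos k with rfl | h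
        · rw [hk] at h4; norm_num at h4
        · omega⟩
      exact irr_of_orderOf Nat.prime_two (Ne.symm hp2) hk hρ
        (hnd fun h => hp4 ((hk ▸ h4).trans h))
    rcases (show p = 3 ∨ 3 < p by omega) with rfl | hp5
    · -- nine points
      exfalso
      exact nine rfl hρ hfr htrans hpE hz hreg hirr4
    · exfalso
      exact mersenne hρ hfr htrans hp5 hp4 hA h8 hzs hsame hodd hirr4
  · -- higher dimension
    exfalso
    -- an element of prime order dividing exactly once is excluded
    have hsylow : ∀ r : ℕ, r.Prime → r ∣ p ^ n - 1 →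
        (∀ j, 1 ≤ j → j < n → ¬ r ∣ p ^ j - 1) → ¬ r ^ 2 ∣ Nat.card E := by
      intro r hr hrd hprim hr2
      have := Fact.mk hr
      have hrp : r ≠ p := by
        rintro rfl
        have h1 : r ∣ r ^ n := dvd_pow_self r (by omega)
        have h' := Nat.dvd_sub h1 hrd
        rw [show r ^ n - (r ^ n - 1) = 1 from by
          have := Nat.one_le_pow n r hr.pos; omega] at h'
        exact hr.one_lt.ne' (Nat.dvd_one.1 h')
      have hirr1 : ∀ t : E, orderOf t = r → Irr ρ t := fun t ht =>
        irr_of_orderOf (k := 0) hr hrp (by rw [ht, zero_add, pow_one]) hρ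
          (by rw [zero_add, pow_one]; exact hprim)
      obtain ⟨R⟩ := (inferInstance : Nonempty (Sylow r E))
      have hR2 : r ^ 2 ∣ Nat.card (R : Subgroup E) := by
        rw [R.card_eq_multiplicity]
        exact pow_dvd_pow r ((hr.pow_dvd_iff_le_factorization Nat.card_pos.ne').1 hr2)
      have h1R : 1 < Nat.card (R : Subgroup E) := lt_of_lt_of_le
        (Nat.one_lt_pow (by norm_num) hr.one_lt) (Nat.le_of_dvd Nat.card_pos hR2)
      have := Finite.one_lt_card_iff_nontrivial.1 h1R
      have hnt := R.2.center_nontrivial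
      obtain ⟨t, ht⟩ := exists_prime_orderOf_dvd_card' (G := Subgroup.center (R : Subgroup E)) r (by
        obtain ⟨k, hk⟩ :=
          IsPGroup.iff_card.1 (R.2.to_subgroup (Subgroup.center (R : Subgroup E)))
        have h1 : 1 < Nat.card (Subgroup.center (R : Subgroup E)) :=
          Finite.one_lt_card_iff_nontrivial.2 hnt
        rw [hk] at h1 ⊢
        exact dvd_pow_self r (by rintro rfl; simp at h1))
      set t' : E := ((t : (R : Subgroup E)) : E) with ht'
      have hto : orderOf t' = r := by rw [ht', Subgroup.orderOf_coe, Subgroup.orderOf_coe, ht]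
      have := isCyclic_centralizer (hirr1 t' hto) hρ
      have hle : (R : Subgroup E) ≤ Subgroup.centralizer ({t'} : Set E) := fun y hy =>
        Subgroup.mem_centralizer_singleton_iff.2
          (congrArg Subtype.val (Subgroup.mem_center_iff.1 t.2 ⟨y, hy⟩))
      have := isCyclic_of_injective (Subgroup.inclusion hle) (Subgroup.inclusion_injective hle)
      obtain ⟨g, hg⟩ := IsCyclic.exists_ofOrder_eq_natCard (α := (R : Subgroup E))
      obtain ⟨m, hm⟩ : ∃ m, orderOf (g : E) = r ^ 2 * m := by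
        rw [Subgroup.orderOf_coe, hg]; exact hR2
      have hm0 : m ≠ 0 := fun h => by
        rw [h, mul_zero] at hm; exact (orderOf_pos (g : E)).ne' hm
      have hgo : orderOf ((g : E) ^ m) = r ^ 2 := by
        rw [orderOf_pow' _ hm0, hm, Nat.gcd_eq_right (Dvd.intro_left _ rfl),
          Nat.mul_div_cancel _ (Nat.pos_of_ne_zero hm0)]
      have hgi : Irr ρ ((g : E) ^ m) := irr_of_orderOf (k := 1) hr hrp hgo hρ
        fun j h1 h2 h => hprim j h1 h2 ((dvd_pow_self r two_ne_zero).trans h)
      have h := hsame t' _ (fun e => by rw [e, orderOf_one] at hto; exact hr.one_lt.ne hto)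
        (fun e => by
          rw [e, orderOf_one] at hgo
          exact (Nat.one_lt_pow two_ne_zero hr.one_lt).ne hgo)
        (hirr1 t' hto) hgi
      rw [hto, hgo] at h
      nlinarith [hr.one_lt]
    by_cases hx34 : p = 3 ∧ n = 4
    · obtain ⟨rfl, hn4⟩ := hx34
      rw [hn4] at hdvd hq
      have hnd : ∀ j, 1 ≤ j → j < finrank (ZMod 3) V → ¬ 2 ^ 4 ∣ 3 ^ j - 1 := by
        intro j hj1 hj2
        have : j < 4 := by omega
        interval_cases j <;> norm_num
      obtain ⟨z, hz⟩ := exists_neg_one htrans hρ hp2 4 (by rw [hq]; norm_num) hnd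
      have hzs : ∀ w, ρ z w = (-1 : ZMod 3) • w := fun w => by rw [hz, neg_smul, one_smul]
      have := Fact.mk (by norm_num : Nat.Prime 5)
      obtain ⟨t, ht⟩ := exists_prime_orderOf_dvd_card' (G := E) 5
        ((by norm_num : 5 ∣ 3 ^ 4 - 1).trans hdvd)
      have hti : Irr ρ t := irr_of_orderOf (k := 0) (by norm_num : Nat.Prime 5) (by norm_num)
        (by rw [ht]; norm_num) hρ fun j hj1 hj2 => by
          have : j < 4 := by omega
          interval_cases j <;> norm_num
      have hz2 : orderOf z = 2 := by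
        refine orderOf_eq_prime (hρ (LinearEquiv.ext fun w => by
          rw [pow_two, apply_mul, hz, hz, neg_neg, map_one]; rfl)) fun h => ?_
        obtain ⟨v, hv⟩ := exists_ne (0 : V)
        have h1 := hzs v
        rw [h, apply_one] at h1
        have h3 : ((1 : ZMod 3) - -1) • v = 0 := by
          rw [sub_smul, ← h1, one_smul, sub_self]
        exact hv ((smul_eq_zero.1 h3).resolve_left (by
          rw [show (1 : ZMod 3) - -1 = ((2 : ℕ) : ZMod 3) by rw [sub_neg_eq_add]; norm_num,
            ZMod.natCast_eq_zero_iff]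
          norm_num))
      have ho := (central_of_scalar hρ hzs t).orderOf_mul_eq_mul_orderOf_of_coprime
        (by rw [ht, hz2]; norm_num)
      rw [ht, hz2] at ho
      have h := hsame t (t * z) (fun e => by rw [e, orderOf_one] at ht; omega)
        (fun e => by rw [e, orderOf_one] at ho; omega) hti
        (irr_mul_scalar hρ (neg_ne_zero.2 one_ne_zero) hzs hti)
      rw [ht, ho] at h
      omega
    by_cases hx6 : (p = 3 ∨ p = 5) ∧ n = 6
    · obtain ⟨hp35, hn6⟩ := hx6
      have h7d : 7 ∣ p ^ n - 1 := by rcases hp35 with rfl | rfl <;> rw [hn6] <;> norm_num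
      have h7p : ∀ j, 1 ≤ j → j < n → ¬ 7 ∣ p ^ j - 1 := by
        intro j hj1 hj2
        have : j < 6 := by omega
        rcases hp35 with rfl | rfl <;> interval_cases j <;> norm_num
      have h7 : Nat.Prime 7 := by norm_num
      have hE7 : 7 ∣ Nat.card E := h7d.trans hdvd
      have h1 : (Nat.card E).factorization 7 = 1 := by
        have h0 := h7.factorization_pos_of_dvd Nat.card_pos.ne' hE7
        have h2 := fun h => hsylow 7 h7 h7d h7p
          ((h7.pow_dvd_iff_le_factorization Nat.card_pos.ne').2 h)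
        by_contra hne
        exact h2 (by omega)
      have := hodd 7 h7 (by norm_num) hE7
      rw [h1] at this
      exact Nat.not_even_one this
    obtain ⟨r, hr, hrd, hprim, halt⟩ := Recog.exists_large_primitive_prime p n hp.two_le (by omega)
      (by rintro ⟨h, -⟩; omega) (by rintro ⟨h, -⟩; omega)
      (by rintro ⟨h, h' | h'⟩
          · exact hx34 ⟨h, h'⟩
          · exact hx6 ⟨Or.inl h, h'⟩)
      (by rintro ⟨h, h'⟩; exact hx6 ⟨Or.inr h, h'⟩)
    rcases halt with hbig | hsq2
    · have := Fact.mk hr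
      obtain ⟨t, ht⟩ := exists_prime_orderOf_dvd_card' (G := E) r (hrd.trans hdvd)
      have hrp : r ≠ p := by
        rintro rfl
        have h1 : r ∣ r ^ n := dvd_pow_self r (by omega)
        have h' := Nat.dvd_sub h1 hrd
        rw [show r ^ n - (r ^ n - 1) = 1 from by
          have := Nat.one_le_pow n r hr.pos; omega] at h'
        exact hr.one_lt.ne' (Nat.dvd_one.1 h')
      have hirr1 : ∀ g : E, orderOf g = r → Irr ρ g := fun g hg =>
        irr_of_orderOf (k := 0) hr hrp (by rw [hg, zero_add, pow_one]) hρ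
          (by rw [zero_add, pow_one]; exact hprim)
      have hpow : ∀ j ∈ Finset.Ico 1 r, orderOf (t ^ j) = r := fun j hj => by
        obtain ⟨hj1, hj2⟩ := Finset.mem_Ico.1 hj
        rw [Nat.Coprime.orderOf_pow, ht]
        rw [ht]
        exact hr.coprime_iff_not_dvd.2 fun h => absurd (Nat.le_of_dvd hj1 h) (by omega)
      have hne : ∀ g : E, orderOf g = r → g ≠ 1 := fun g hg e => by
        rw [e, orderOf_one] at hg; exact hr.one_lt.ne hg
      have hcard := card_conj_pow_le (hirr1 t ht) hρ (Finset.Ico 1 r)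
        (fun j hj => hreg t (t ^ j) (hne t ht) (hne _ (hpow j hj))
          (isCyclic_centralizer (hirr1 t ht) hρ)
          (isCyclic_centralizer (hirr1 _ (hpow j hj)) hρ))
        (fun i hi j hj h => pow_injOn_Iio_orderOf (by rw [ht]; exact (Finset.mem_Ico.1 hi).2)
          (by rw [ht]; exact (Finset.mem_Ico.1 hj).2) h)
      rw [Nat.card_Ico] at hcard
      omega
    · exact hsylow r hr hrd hprim (hsq2.trans hdvd)

end CfsgLib.Linear.RegularTwoClass
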