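import Cfsg.Agent.Lib.Linear.SylowLargeR
import Cfsg.Agent.Lib.Classical.SLOrder
import Cfsg.Agent.Lib.Classical.AltOrder
import Cfsg.Agent.Lib.Geom.Symp

/-!
# Sylow subgroups of the special linear and symplectic groups at large primes
-/

set_option autoImplicit false

namespace CfsgLib.Classical.SylowLargeR

open Polynomial Matrix
open scoped Finset

variable {r : ℕ} [hr : Fact r.Prime] {q : ℕ} {F : Type*} [Field F] [Fintype F]

theorem card_filter_Icc_dvd (d n : ℕ) :
    #{i ∈ Finset.Icc 1 n | d ∣ i} = n / d := by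
  rw [← Nat.Ioc_filter_dvd_card_eq_div n d, show Finset.Icc 1 n = Finset.Ioc 0 n from
    Finset.Icc_add_one_left_eq_Ioc 0 n]

/-- Matrices `diag (A, A⁻ᵀ)`. -/
noncomputable def glToSp (n : ℕ) : GL (Fin n) F →* ↥(Matrix.symplecticGroup (Fin n) F) where
  toFun A := ⟨fromBlocks (A : Matrix (Fin n) (Fin n) F) 0 0 ((A⁻¹ : GL (Fin n) F) : Matrix (Fin n) (Fin n) F)ᵀ, by
    rw [SymplecticGroup.mem_iff, Matrix.J, fromBlocks_transpose, fromBlocks_multiply,
      fromBlocks_multiply]
    simp [← Matrix.transpose_mul]⟩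
  map_one' := Subtype.ext (by simp)
  map_mul' A B := Subtype.ext (by
    show fromBlocks _ _ _ _ = fromBlocks _ _ _ _ * fromBlocks _ _ _ _
    simp [fromBlocks_multiply, Matrix.transpose_mul])

theorem glToSp_injective (n : ℕ) : Function.Injective (glToSp (F := F) n) := fun A B h =>
  Units.ext (fromBlocks_inj.1 (congrArg Subtype.val h)).1

/-- The symplectic group inside the general linear group. -/
noncomputable def spToGL (n : ℕ) : ↥(Matrix.symplecticGroup (Fin n) F) →* GL (Fin (n + n)) F :=
  ((Units.map (Matrix.reindexAlgEquiv F F (finSumFinEquiv : Fin n ⊕ Fin n ≃ Fin (n + n))).toAlgHom.toRingHom.toMonoidHom).comp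
    (Units.map (Matrix.symplecticGroup (Fin n) F).subtype)).comp toUnits.toMonoidHom

theorem spToGL_injective (n : ℕ) : Function.Injective (spToGL (F := F) n) := by
  refine ((Units.map_injective ?_).comp (Units.map_injective Subtype.val_injective)).comp
    toUnits.injective
  exact (Matrix.reindexAlgEquiv F F (finSumFinEquiv : Fin n ⊕ Fin n ≃ Fin (n + n))).injective

variable (hq : Fintype.card F = q) (hrq : ¬ r ∣ q)
include hq hrq

theorem val_sl {n : ℕ} (hn : 1 ≤ n) (hnd : n / orderOf (q : ZMod r) < r) :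
    (q - 1).factorization r + (Nat.card (Matrix.SpecialLinearGroup (Fin n) F)).factorization r =
      n / orderOf (q : ZMod r) * (q ^ orderOf (q : ZMod r) - 1).factorization r := by
  subst hq
  have h2 : 2 ≤ Fintype.card F := Fintype.one_lt_card
  rw [← val_card_GL_formula h2 hrq hnd, ← CfsgLib.Classical.card_sl_mul hn,
    Nat.factorization_mul (by omega) Nat.card_pos.ne', Finsupp.add_apply]

theorem val_q_pred : (q - 1).factorization r =
    if orderOf (q : ZMod r) = 1 then (q ^ orderOf (q : ZMod r) - 1).factorization r else 0 := by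
  have h2 := two_le_q hq
  split_ifs with h
  · rw [h, pow_one]
  · refine Nat.factorization_eq_zero_of_not_dvd fun hd => h ?_
    have := (dvd_pow_pred_iff h2 hrq 1).1 (by rwa [pow_one])
    exact Nat.dvd_one.1 this

/-- The Sylow `r`-subgroup of `SL n`. -/
theorem sylow_SL {n : ℕ} (hrn : n < r) (P : Sylow r (Matrix.SpecialLinearGroup (Fin n) F)) :
    Nonempty (↥(P : Subgroup (Matrix.SpecialLinearGroup (Fin n) F)) ≃*
      (Fin ((Finset.Icc 2 n).filter (fun i => orderOf (q : ZMod r) ∣ i)).card →
        Multiplicative (ZMod (r ^ padicValNat r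
          ((cyclotomic (orderOf (q : ZMod r)) ℤ).eval (q : ℤ)).natAbs)))) := by
  classical
  have h2 := two_le_q hq
  have hnd : n / orderOf (q : ZMod r) < r := lt_of_le_of_lt (Nat.div_le_self _ _) hrn
  rcases Nat.eq_zero_or_pos n with rfl | hn
  · haveI : IsEmpty (Fin ((Finset.Icc 2 0).filter (fun i => orderOf (q : ZMod r) ∣ i)).card) := by
      simp only [Finset.Icc_eq_empty_of_lt (show 0 < 2 by omega), Finset.filter_empty,
        Finset.card_empty]
      infer_instance
    haveI : Subsingleton (Matrix.SpecialLinearGroup (Fin 0) F) :=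
      ⟨fun A B => Subtype.ext (Subsingleton.elim _ _)⟩
    refine sylow_iso_of_inj (1 : (Fin _ → _) →* _) (fun a b _ => Subsingleton.elim a b) ?_ P
    rw [Nat.card_of_subsingleton (1 : Matrix.SpecialLinearGroup (Fin 0) F),
      Nat.card_of_subsingleton]
    · simp
    · exact fun i => isEmptyElim i
  have hv := val_sl hq hrq hn hnd
  rw [val_q_pred hq hrq] at hv
  obtain ⟨P0⟩ : Nonempty (Sylow r (GL (Fin n) F)) := inferInstance
  obtain ⟨e⟩ := sylow_GL hq hrq hnd P0
  rcases eq_or_ne (orderOf (q : ZMod r)) 1 with hd | hd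
  · obtain ⟨l, rfl⟩ : ∃ l, n = l + 1 := ⟨n - 1, by omega⟩
    have hk : ((Finset.Icc 2 (l + 1)).filter (fun i => orderOf (q : ZMod r) ∣ i)).card = l := by
      simp [hd]
    rw [hk]
    rw [if_pos hd, cyclotomic_eval_val h2 hrq] at *
    set m := r ^ (q ^ orderOf (q : ZMod r) - 1).factorization r with hm
    obtain ⟨P1⟩ : Nonempty (Sylow r (GL (Fin 1) F)) := inferInstance
    have h1d : 1 / orderOf (q : ZMod r) < r := by rw [hd]; exact hr.out.one_lt
    obtain ⟨e1⟩ := sylow_GL hq hrq h1d P1
    rw [cyclotomic_eval_val h2 hrq] at e1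
    let u : Multiplicative (ZMod m) →* Fˣ :=
      (Matrix.GeneralLinearGroup.det.comp (P1 : Subgroup (GL (Fin 1) F)).subtype).comp
        (e1.symm.toMonoidHom.comp (Pi.constMonoidHom (Fin (1 / orderOf (q : ZMod r))) _))
    have hu : Function.Injective u := by
      intro a b hab
      have hdet : Function.Injective (Matrix.GeneralLinearGroup.det (n := Fin 1) (R := F)) :=
        fun A B h => Units.ext (by
          have := congrArg Units.val h
          ext i j
          simpa [Fin.fin_one_eq_zero i, Fin.fin_one_eq_zero j, Matrix.det_fin_one] using this)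
      have h3 := e1.symm.injective (Subtype.ext (hdet hab))
      exact congrFun h3 ⟨0, by rw [hd]; exact Nat.one_pos⟩
    let f : (Fin l → Multiplicative (ZMod m)) →* Matrix.SpecialLinearGroup (Fin (l + 1)) F :=
      { toFun := fun x => ⟨diagonal (Fin.cons (((∏ i, u (x i))⁻¹ : Fˣ) : F) fun i => (u (x i) : F)),
          by rw [det_diagonal, Fin.prod_cons, ← Units.coe_prod, ← Units.val_mul, inv_mul_cancel,
              Units.val_one]⟩
        map_one' := Subtype.ext (by
          ext i j
          refine Fin.cases ?_ (fun i' => ?_) i <;> refine Fin.cases ?_ (fun j' => ?_) j <;>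
            simp [diagonal, Matrix.one_apply, Fin.succ_ne_zero, (Fin.succ_ne_zero _).symm])
        map_mul' := fun x y => Subtype.ext (by
          show diagonal _ = diagonal _ * diagonal _
          rw [diagonal_mul_diagonal]
          congr 1
          funext i
          refine Fin.cases ?_ (fun i' => ?_) i
          · simp only [Fin.cons_zero]
            rw [← Units.val_mul, ← mul_inv, ← Finset.prod_mul_distrib]
            simp only [Pi.mul_apply, map_mul]
          · simp) }
    have hf : Function.Injective f := fun x y h => funext fun i => hu (Units.ext (by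
      have := congrFun (diagonal_injective (congrArg Subtype.val h)) i.succ
      simpa using this))
    refine sylow_iso_of_inj f hf ?_ P
    rw [Nat.card_fun, Nat.card_congr Multiplicative.toAdd, Nat.card_zmod, Nat.card_fin, hm,
      ← pow_mul]
    congr 1
    rw [hd, Nat.div_one] at hv
    rw [hd]
    rw [add_mul, one_mul] at hv
    rw [mul_comm]
    omega
  · have hk : ((Finset.Icc 2 n).filter (fun i => orderOf (q : ZMod r) ∣ i)).card =
        n / orderOf (q : ZMod r) := by
      rw [← card_filter_Icc_dvd (orderOf (q : ZMod r)) n]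
      congr 1
      ext i
      simp only [Finset.mem_filter, Finset.mem_Icc]
      refine ⟨fun h => ⟨⟨by omega, h.1.2⟩, h.2⟩, fun h => ⟨⟨?_, h.1.2⟩, h.2⟩⟩
      by_contra hi
      have : i = 1 := by omega
      exact hd (Nat.dvd_one.1 (this ▸ h.2))
    rw [if_neg hd, zero_add] at hv
    rw [hk]
    obtain ⟨i⟩ := sylow_iso_along (Matrix.SpecialLinearGroup.toGL)
      Matrix.SpecialLinearGroup.toGL_injective (by
        rw [hv, Matrix.card_GL_field, hq, val_card_GL_formula h2 hrq hnd]) P P0
    exact ⟨i.symm.trans e⟩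

theorem val_sp {n : ℕ} : (Nat.card ↥(Matrix.symplecticGroup (Fin n) F)).factorization r =
    ∑ i ∈ Finset.range n, (q ^ (2 * (i + 1)) - 1).factorization r := by
  subst hq
  have h2 : 2 ≤ Fintype.card F := Fintype.one_lt_card
  have hne : ∀ i ∈ Finset.range n, Fintype.card F ^ (2 * (i + 1)) - 1 ≠ 0 := fun i _ => by
    have := Nat.one_lt_pow (n := 2 * (i + 1)) (by omega) (show 1 < Fintype.card F by omega)
    omega
  have hcard : Nat.card ↥(Matrix.symplecticGroup (Fin n) F) = Fintype.card F ^ (n ^ 2) *
      ∏ i ∈ Finset.range n, (Fintype.card F ^ (2 * (i + 1)) - 1) := by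
    rw [← Nat.card_congr (CfsgLib.Geom.spEquiv n F).toEquiv]
    exact CfsgLib.Classical.card_formIsoms_alt (CfsgLib.Geom.sympBilin n F)
      CfsgLib.Geom.sympBilin_self CfsgLib.Geom.sympBilin_sep n (by
        rw [Module.finrank_fintype_fun_eq_card, Fintype.card_sum, Fintype.card_fin]; ring)
  rw [hcard, Nat.factorization_mul (pow_ne_zero _ (by omega)) (Finset.prod_ne_zero_iff.2 hne),
    Finsupp.add_apply, Nat.factorization_pow, Finsupp.smul_apply, val_q_zero h2 hrq, smul_zero,
    zero_add, Nat.factorization_prod_apply hne]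

/-- The Sylow `r`-subgroup of `Sp 2n`. -/
theorem sylow_Sp {n : ℕ} (hr2 : r ≠ 2) (hrn : n < r)
    (P : Sylow r ↥(Matrix.symplecticGroup (Fin n) F)) :
    Nonempty (↥(P : Subgroup ↥(Matrix.symplecticGroup (Fin n) F)) ≃*
      (Fin ((Finset.Icc 1 n).filter (fun i => orderOf (q : ZMod r) ∣ 2 * i)).card →
        Multiplicative (ZMod (r ^ padicValNat r
          ((cyclotomic (orderOf (q : ZMod r)) ℤ).eval (q : ℤ)).natAbs)))) := by
  classical
  have h2 := two_le_q hq
  have hd0 := d_pos h2 hrq
  have hw : ∀ i ∈ Finset.range n, (q ^ (2 * (i + 1)) - 1).factorization r =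
      if orderOf (q : ZMod r) ∣ 2 * (i + 1)
        then (q ^ orderOf (q : ZMod r) - 1).factorization r else 0 := by
    intro i hi
    rw [Finset.mem_range] at hi
    refine val_pow_pred h2 hrq fun hdvd hj => ?_
    rcases hr.out.dvd_mul.1 (hj.trans (Nat.div_dvd_of_dvd hdvd)) with h | h
    · exact hr2 ((Nat.prime_dvd_prime_iff_eq hr.out Nat.prime_two).1 h)
    · exact absurd (Nat.le_of_dvd i.succ_pos h) (by omega)
  have hsum : (Nat.card ↥(Matrix.symplecticGroup (Fin n) F)).factorization r =
      ((Finset.Icc 1 n).filter (fun i => orderOf (q : ZMod r) ∣ 2 * i)).card *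
        (q ^ orderOf (q : ZMod r) - 1).factorization r := by
    rw [val_sp hq hrq, Finset.sum_congr rfl hw, ← Finset.sum_filter, Finset.sum_const, smul_eq_mul]
    congr 1
    refine Finset.card_bij (fun i _ => i + 1) (fun i hi => by
      simp only [Finset.mem_filter, Finset.mem_range, Finset.mem_Icc] at hi ⊢
      exact ⟨by omega, hi.2⟩) (fun _ _ _ _ h => by omega) (fun j hj => ?_)
    simp only [Finset.mem_filter, Finset.mem_Icc] at hj
    refine ⟨j - 1, ?_, by omega⟩
    simp only [Finset.mem_filter, Finset.mem_range]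
    exact ⟨by omega, by rw [show j - 1 + 1 = j by omega]; exact hj.2⟩
  rcases Nat.even_or_odd (orderOf (q : ZMod r)) with ⟨e, he⟩ | hodd
  · have hk : ((Finset.Icc 1 n).filter (fun i => orderOf (q : ZMod r) ∣ 2 * i)).card =
        (n + n) / orderOf (q : ZMod r) := by
      rw [he, ← two_mul, ← two_mul, Nat.mul_div_mul_left _ _ (by omega : 0 < 2),
        ← card_filter_Icc_dvd e n]
      congr 1
      exact Finset.filter_congr fun i _ => Nat.mul_dvd_mul_iff_left (by omega)
    have hnd : (n + n) / orderOf (q : ZMod r) < r := by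
      refine lt_of_le_of_lt ?_ hrn
      rw [he, ← two_mul, ← two_mul, Nat.mul_div_mul_left _ _ (by omega : 0 < 2)]
      exact Nat.div_le_self _ _
    obtain ⟨P0⟩ : Nonempty (Sylow r (GL (Fin (n + n)) F)) := inferInstance
    obtain ⟨e'⟩ := sylow_GL hq hrq hnd P0
    obtain ⟨i⟩ := sylow_iso_along (spToGL n) (spToGL_injective n) (by
      rw [hsum, hk, Matrix.card_GL_field, hq, val_card_GL_formula h2 hrq hnd]) P P0
    rw [hk]
    exact ⟨i.symm.trans e'⟩
  · have hk : ((Finset.Icc 1 n).filter (fun i => orderOf (q : ZMod r) ∣ 2 * i)).card =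
        n / orderOf (q : ZMod r) := by
      rw [← card_filter_Icc_dvd (orderOf (q : ZMod r)) n]
      congr 1
      refine Finset.filter_congr fun i _ => ⟨fun h => ?_, fun h => h.mul_left 2⟩
      exact (Nat.coprime_two_right.2 hodd).dvd_of_dvd_mul_left h
    have hnd : n / orderOf (q : ZMod r) < r := lt_of_le_of_lt (Nat.div_le_self _ _) hrn
    obtain ⟨P0⟩ : Nonempty (Sylow r (GL (Fin n) F)) := inferInstance
    obtain ⟨e'⟩ := sylow_GL hq hrq hnd P0
    obtain ⟨i⟩ := sylow_iso_along (glToSp n) (glToSp_injective n) (by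
      rw [hsum, hk, Matrix.card_GL_field, hq, val_card_GL_formula h2 hrq hnd]) P0 P
    rw [hk]
    exact ⟨i.trans e'⟩

end CfsgLib.Classical.SylowLargeR
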